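import Cfsg.Agent.H595.Solv
set_option linter.all false

/-!
# The conjugation action of a subgroup `S` normalising a subgroup `G` of `Γ`
-/

set_option autoImplicit false

namespace Cfsg.Agent.H595.Conj

open Cfsg
open Cfsg.Agent.H593.GlaubermanP (Inv)

/-- Conjugation action. -/
@[instance_reducible]
def conjAct {Γ : Type*} [Group Γ] (G S : Subgroup Γ)
    (hnorm : ∀ s ∈ S, ∀ g ∈ G, s * g * s⁻¹ ∈ G) : MulDistribMulAction S G where
  smul := fun s g => ⟨(s : Γ) * g * (s : Γ)⁻¹, hnorm s s.2 g g.2⟩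
  one_smul := fun g => Subtype.ext (by
    show ((1 : S) : Γ) * g * ((1 : S) : Γ)⁻¹ = g
    rw [OneMemClass.coe_one, one_mul, inv_one, mul_one])
  mul_smul := fun s t g => Subtype.ext (by
    show ((s * t : S) : Γ) * g * ((s * t : S) : Γ)⁻¹ = s * (t * g * (t : Γ)⁻¹) * (s : Γ)⁻¹
    rw [Subgroup.coe_mul]
    group)
  smul_mul := fun s g h => Subtype.ext (by
    show (s : Γ) * ((g * h : G) : Γ) * (s : Γ)⁻¹ =
      (s * g * (s : Γ)⁻¹) * (s * h * (s : Γ)⁻¹)
    rw [Subgroup.coe_mul]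
    group)
  smul_one := fun s => Subtype.ext (by
    show (s : Γ) * ((1 : G) : Γ) * (s : Γ)⁻¹ = ((1 : G) : Γ)
    rw [OneMemClass.coe_one, mul_one, mul_inv_cancel])

theorem conjAct_smul {Γ : Type*} [Group Γ] (G S : Subgroup Γ)
    (hnorm : ∀ s ∈ S, ∀ g ∈ G, s * g * s⁻¹ ∈ G) (s : S) (g : G) :
    letI := conjAct G S hnorm
    ((s • g : G) : Γ) = (s : Γ) * g * (s : Γ)⁻¹ := rfl

/-- Invariance in the two languages. -/
theorem inv_iff {Γ : Type*} [Group Γ] (G S : Subgroup Γ)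
    (hnorm : ∀ s ∈ S, ∀ g ∈ G, s * g * s⁻¹ ∈ G) (f : G → ℂ) :
    (∀ s ∈ S, ∀ g g' : G, (g' : Γ) = s * g * s⁻¹ → f g' = f g) ↔
      letI := conjAct G S hnorm
      Inv S f := by
  letI := conjAct G S hnorm
  constructor
  · intro h s g
    exact h s s.2 g (s • g) rfl
  · intro h s hs g g' hg
    have h1 : g' = (⟨s, hs⟩ : S) • g := Subtype.ext hg
    rw [h1, h]

/-- The fixed points are `G ⊓ C(S)`. -/
theorem fixed_iff {Γ : Type*} [Group Γ] (G S : Subgroup Γ)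
    (hnorm : ∀ s ∈ S, ∀ g ∈ G, s * g * s⁻¹ ∈ G) (g : G) :
    (letI := conjAct G S hnorm
      ∀ s : S, s • g = g) ↔ (g : Γ) ∈ Subgroup.centralizer (S : Set Γ) := by
  letI := conjAct G S hnorm
  rw [Subgroup.mem_centralizer_iff]
  constructor
  · intro h s hs
    have h1 := congrArg (fun x : G => (x : Γ)) (h ⟨s, hs⟩)
    have h2 : s * (g : Γ) * s⁻¹ = g := h1
    exact mul_inv_eq_iff_eq_mul.1 h2
  · intro h s
    apply Subtype.ext
    show (s : Γ) * g * (s : Γ)⁻¹ = g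
    exact mul_inv_eq_iff_eq_mul.2 (h s s.2)

end Cfsg.Agent.H595.Conj
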