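import Cfsg.Agent.S0867
import Cfsg.Agent.S0868
import Cfsg.Agent.S0887
import Cfsg.Agent.Blocks.Fong
import Cfsg.Agent.Blocks.Basic
import Cfsg.Agent.H593.GlaubermanP
set_option linter.all false

/-!
# Characters over a normal Hall subgroup

`K` is a normal Hall subgroup of the finite group `X`.

* `canon` : an invariant irreducible character of `K` extends to `X`;
* `card_ext` : the number of the extensions of an invariant irreducible character;
* `card_coprime` : the number of the irreducible characters of `X` of degree prime to `|X : K|`.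
-/

set_option autoImplicit false
set_option linter.unusedSectionVars false

namespace Cfsg.Agent.H595.Count

open Cfsg
open scoped ComplexConjugate
open Cfsg.Agent.Characters.Core

/-- A character with a constituent of the same degree. -/
theorem eq_of_degree {D : Type*} [Group D] [Fintype D] {χ : D → ℂ} (hχ : IsCharacter D χ)
    {ψ : D → ℂ} (hψ : IsIrrCharacter D ψ) (hc : classInner χ ψ ≠ 0) (h1 : χ 1 = ψ 1) : χ = ψ := by
  classical
  have := finite_irr (G := D)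
  let _ : Fintype (IrrCharacter D) := Fintype.ofFinite _
  obtain ⟨m, hm⟩ := exists_nat_comb hχ
  have hdegs : ∀ φ : IrrCharacter D, ∃ n : ℕ, 0 < n ∧ (φ : D → ℂ) 1 = n := fun φ =>
    isIrr_apply_one φ.2
  choose d hd0 hd using hdegs
  have hmψ : 1 ≤ m ⟨ψ, hψ⟩ := by
    refine Nat.one_le_iff_ne_zero.2 fun h0 => hc ?_
    rw [hm, classInner_sum_nsmul_irr m ⟨ψ, hψ⟩, h0, Nat.cast_zero]
  have hsum : ∑ φ : IrrCharacter D, m φ * d φ = d ⟨ψ, hψ⟩ := by
    have h2 : ((∑ φ : IrrCharacter D, m φ * d φ : ℕ) : ℂ) = d ⟨ψ, hψ⟩ := by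
      rw [← hd ⟨ψ, hψ⟩]
      show _ = ψ 1
      rw [← h1, hm, Finset.sum_apply]
      push_cast
      refine Finset.sum_congr rfl fun φ _ => ?_
      rw [Pi.smul_apply, nsmul_eq_mul, hd]
    exact_mod_cast h2
  rw [← Finset.add_sum_erase _ _ (Finset.mem_univ (⟨ψ, hψ⟩ : IrrCharacter D))] at hsum
  have h3 : d ⟨ψ, hψ⟩ ≤ m ⟨ψ, hψ⟩ * d ⟨ψ, hψ⟩ := Nat.le_mul_of_pos_left _ hmψ
  have h4 : ∑ φ ∈ Finset.univ.erase (⟨ψ, hψ⟩ : IrrCharacter D), m φ * d φ = 0 := by omega
  have h5 : m ⟨ψ, hψ⟩ = 1 := by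
    have h6 : m ⟨ψ, hψ⟩ * d ⟨ψ, hψ⟩ = 1 * d ⟨ψ, hψ⟩ := by omega
    exact Nat.eq_of_mul_eq_mul_right (hd0 _) h6
  have h7 : ∀ φ ∈ Finset.univ.erase (⟨ψ, hψ⟩ : IrrCharacter D), m φ = 0 := by
    intro φ hφ
    have h8 := (Finset.sum_eq_zero_iff.1 h4) φ hφ
    rcases Nat.mul_eq_zero.1 h8 with h9 | h9
    · exact h9
    · exact absurd h9 (hd0 φ).ne'
  rw [hm, ← Finset.add_sum_erase _ _ (Finset.mem_univ (⟨ψ, hψ⟩ : IrrCharacter D)), h5, one_nsmul,
    Finset.sum_eq_zero fun φ hφ => by rw [h7 φ hφ, zero_nsmul], add_zero]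

variable {X : Type*} [Group X]

/-- Invariance under conjugation. -/
def CInv (K : Subgroup X) [hK : K.Normal] (θ : K → ℂ) : Prop :=
  ∀ (x : X) (n : K), θ ⟨x * n * x⁻¹, hK.conj_mem n n.2 x⟩ = θ n

theorem cinv_restrict (K : Subgroup X) [K.Normal] {χ : X → ℂ} (hχ : IsClassFunction X χ) :
    CInv K (fun n : K => χ n) := fun x n => hχ (n : X) x

theorem detOrder_dvd {K : Type*} [Group K] [Finite K] {θ : K → ℂ} (hθ : IsIrrCharacter K θ) :
    detOrder θ ∣ Nat.card K := by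
  obtain ⟨δ, hδ⟩ := Cfsg.Agent.CharactersDeep.ExtUnique.exists_hom_detChar hθ
  refine orderOf_dvd_of_pow_eq_one ?_
  funext g
  rw [Pi.pow_apply, hδ, Pi.one_apply, ← Units.val_pow_eq_pow_val, ← map_pow, pow_card_eq_one',
    map_one, Units.val_one]

/-- The canonical extension. -/
theorem canon [Finite X] (K : Subgroup X) [hK : K.Normal] (hcop : (Nat.card K).Coprime K.index)
    (θ : IrrCharacter K) (hinv : CInv K (θ : K → ℂ)) :
    ∃ χ : IrrCharacter X, (∀ n : K, (χ : X → ℂ) n = (θ : K → ℂ) n) ∧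
      detOrder (χ : X → ℂ) = detOrder (θ : K → ℂ) := by
  have := Fintype.ofFinite X
  have := Fintype.ofFinite K
  obtain ⟨d, hd0, hd⟩ := isIrr_apply_one θ.2
  have h1 : d ∣ Nat.card K := by
    have := Cfsg.Agent.H593.GlaubermanP.charDegree_dvd θ.2
    rwa [Cfsg.Agent.Blocks.Basic.charDegree_of_eq hd] at this
  obtain ⟨χ, ⟨h2, h3, h4⟩, -⟩ := Cfsg.Agent.S0867.result K (θ : K → ℂ) θ.2 hinv d hd
    (Nat.Coprime.mul_right
      (Nat.Coprime.symm (Nat.Coprime.coprime_dvd_left (detOrder_dvd θ.2) hcop))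
      (Nat.Coprime.symm (Nat.Coprime.coprime_dvd_left h1 hcop)))
  exact ⟨⟨χ, h2⟩, h3, h4⟩

/-- A linear character of the quotient fixing an extension is trivial. -/
theorem hom_eq_one [Finite X] (K : Subgroup X) [hK : K.Normal] {χ : X → ℂ}
    (hχ : IsIrrCharacter X χ) (hχK : IsIrrCharacter K (fun n : K => χ n)) (β : X →* ℂˣ)
    (hβ : ∀ n ∈ K, β n = 1) (h : ∀ g, χ g * β g = χ g) : β = 1 := by
  have := Fintype.ofFinite X
  have := Fintype.ofFinite K
  have h1 := (Cfsg.Agent.S0868.result K χ hχ hχK χ hχ _ rfl).2.2 rfl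
  ext x
  have h2 : (Nat.card K : ℂ)⁻¹ * ∑ n : K, χ ((n : X) * x) * conj (χ ((n : X) * x)) = 1 :=
    congrFun h1 x
  have h3 : ∃ n : K, χ ((n : X) * x) ≠ 0 := by
    by_contra hcon
    push Not at hcon
    rw [Finset.sum_eq_zero fun n _ => by rw [hcon n, zero_mul], mul_zero] at h2
    exact one_ne_zero h2.symm
  obtain ⟨n, hn⟩ := h3
  have h4 := h ((n : X) * x)
  rw [map_mul, hβ _ n.2, one_mul] at h4
  have h5 : χ ((n : X) * x) * ((β x : ℂ) - 1) = 0 := by
    rw [mul_sub, h4, mul_one, sub_self]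
  have h6 := (mul_eq_zero.1 h5).resolve_left hn
  rw [MonoidHom.one_apply, Units.val_one]
  exact sub_eq_zero.1 h6

/-- The extensions of an extendible character. -/
theorem card_ext [Finite X] (K : Subgroup X) [hK : K.Normal] (θ : IrrCharacter K)
    (χ₀ : IrrCharacter X) (hχ₀ : ∀ n : K, (χ₀ : X → ℂ) n = (θ : K → ℂ) n) :
    Nat.card {χ : IrrCharacter X // ∀ n : K, (χ : X → ℂ) n = (θ : K → ℂ) n} =
      Nat.card (X ⧸ K →* ℂˣ) := by
  symm
  refine Nat.card_congr (Equiv.ofBijective (fun l => ⟨⟨fun g => (χ₀ : X → ℂ) g *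
    (l.comp (QuotientGroup.mk' K)) g,
    Cfsg.Agent.CharactersDeep.ExtUnique.isIrr_mul_hom χ₀.2 _⟩, fun n => ?_⟩) ⟨?_, ?_⟩)
  · have h1 : (QuotientGroup.mk' K) (n : X) = 1 := (QuotientGroup.eq_one_iff _).2 n.2
    show (χ₀ : X → ℂ) n * ((l.comp (QuotientGroup.mk' K)) (n : X) : ℂ) = _
    rw [MonoidHom.comp_apply, h1, map_one, Units.val_one, mul_one, hχ₀]
  · intro l l' h
    have h1 : ∀ g, (χ₀ : X → ℂ) g * ((l.comp (QuotientGroup.mk' K)) g : ℂ) =
        (χ₀ : X → ℂ) g * ((l'.comp (QuotientGroup.mk' K)) g : ℂ) := fun g =>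
      congrFun (congrArg (fun z => ((z : {χ : IrrCharacter X //
        ∀ n : K, (χ : X → ℂ) n = (θ : K → ℂ) n}).1 : X → ℂ)) h) g
    have h2 : (l.comp (QuotientGroup.mk' K)) * (l'.comp (QuotientGroup.mk' K))⁻¹ = 1 := by
      refine hom_eq_one K χ₀.2 ?_ _ ?_ ?_
      · have : (fun n : K => (χ₀ : X → ℂ) n) = (θ : K → ℂ) := funext hχ₀
        rw [this]; exact θ.2
      · intro n hn
        have h3 : (QuotientGroup.mk' K) (n : X) = 1 := (QuotientGroup.eq_one_iff _).2 hn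
        rw [MonoidHom.mul_apply, MonoidHom.inv_apply, MonoidHom.comp_apply, MonoidHom.comp_apply,
          h3, map_one, map_one, inv_one, one_mul]
      · intro g
        rw [MonoidHom.mul_apply, MonoidHom.inv_apply, Units.val_mul, ← mul_assoc, h1, mul_assoc,
          ← Units.val_mul, mul_inv_cancel, Units.val_one, mul_one]
    have h4 : l.comp (QuotientGroup.mk' K) = l'.comp (QuotientGroup.mk' K) := mul_inv_eq_one.1 h2
    exact (MonoidHom.cancel_right (QuotientGroup.mk'_surjective K)).1 h4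
  · rintro ⟨χ, hχ⟩
    obtain ⟨β, hβ, h⟩ := Cfsg.Agent.CharactersDeep.ExtUnique.exists_hom_mul_of_restrict_eq K
      (isIrr_isCharacter χ₀.2) (isIrr_isCharacter χ.2) θ.2 hχ₀ hχ
    refine ⟨QuotientGroup.lift K β hβ, Subtype.ext (Subtype.ext (funext fun g => ?_))⟩
    rw [h]
    rfl

/-- Restriction of a character of degree prime to the index of `K`. -/
theorem restrict_irr [Finite X] (K : Subgroup X) [hK : K.Normal] (χ : IrrCharacter X)
    (hχ : (charDegree (χ : X → ℂ)).Coprime K.index) :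
    IsIrrCharacter K (fun n : K => (χ : X → ℂ) n) := by
  have := Fintype.ofFinite X
  have := Fintype.ofFinite K
  obtain ⟨θ, hθ⟩ := Cfsg.Agent.Blocks.Fong.exists_constituent (N := K) χ
  obtain ⟨c, hc0, hc⟩ := isIrr_apply_one χ.2
  obtain ⟨d, hd0, hd⟩ := isIrr_apply_one θ.2
  obtain ⟨h1, h2⟩ := Cfsg.Agent.S0887.result K (χ : X → ℂ) χ.2 (θ : K → ℂ) θ.2 hθ c d hc hd
  rw [Cfsg.Agent.Blocks.Basic.charDegree_of_eq hc] at hχ
  have h3 : c / d ∣ c := Nat.div_dvd_of_dvd h1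
  have h4 : c / d = 1 := Nat.dvd_one.1 (by
    have := Nat.dvd_gcd h3 h2
    rwa [hχ] at this)
  have h5 : c = d := by
    have := Nat.div_mul_cancel h1
    rw [h4, one_mul] at this
    exact this.symm
  have h6 : (fun n : K => (χ : X → ℂ) n) = (θ : K → ℂ) := by
    refine eq_of_degree (isCharacter_comp K.subtype (isIrr_isCharacter χ.2)) θ.2 hθ ?_
    rw [hd, ← h5, ← hc]
    rfl
  rw [h6]
  exact θ.2

/-- **The number of the irreducible characters of degree prime to the index** of the normal Hall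
subgroup `K`. -/
theorem card_coprime [Finite X] (K : Subgroup X) [hK : K.Normal]
    (hcop : (Nat.card K).Coprime K.index) :
    Nat.card {χ : IrrCharacter X // (charDegree (χ : X → ℂ)).Coprime K.index} =
      Nat.card {θ : IrrCharacter K // CInv K (θ : K → ℂ)} * Nat.card (X ⧸ K →* ℂˣ) := by
  have := Fintype.ofFinite X
  have := Fintype.ofFinite K
  let f : {χ : IrrCharacter X // (charDegree (χ : X → ℂ)).Coprime K.index} →
      {θ : IrrCharacter K // CInv K (θ : K → ℂ)} := fun χ =>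
    ⟨⟨fun n : K => (χ.1 : X → ℂ) n, restrict_irr K χ.1 χ.2⟩,
      cinv_restrict K (isIrr_isClassFunction χ.1.2)⟩
  have hfinX : Finite (IrrCharacter X) := finite_irr
  have hfinK : Finite (IrrCharacter K) := finite_irr
  have := Fintype.ofFinite {θ : IrrCharacter K // CInv K (θ : K → ℂ)}
  rw [Nat.card_congr (Equiv.sigmaFiberEquiv f).symm, Nat.card_sigma]
  have h1 : ∀ θ : {θ : IrrCharacter K // CInv K (θ : K → ℂ)},
      Nat.card {χ // f χ = θ} = Nat.card (X ⧸ K →* ℂˣ) := by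
    intro θ
    obtain ⟨χ₀, hχ₀, -⟩ := canon K hcop θ.1 θ.2
    rw [← card_ext K θ.1 χ₀ hχ₀]
    refine Nat.card_congr ⟨fun χ => ⟨χ.1.1, fun n => ?_⟩, fun χ => ⟨⟨χ.1, ?_⟩, ?_⟩,
      fun _ => rfl, fun _ => rfl⟩
    · exact congrFun (congrArg (fun z : {θ : IrrCharacter K // CInv K (θ : K → ℂ)} =>
        (z.1 : K → ℂ)) χ.2) n
    · obtain ⟨d, hd0, hd⟩ := isIrr_apply_one θ.1.2
      have h2 : (χ.1 : X → ℂ) 1 = d := by
        rw [← hd]
        exact χ.2 1
      have h3 := Cfsg.Agent.H593.GlaubermanP.charDegree_dvd θ.1.2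
      rw [Cfsg.Agent.Blocks.Basic.charDegree_of_eq hd] at h3
      rw [Cfsg.Agent.Blocks.Basic.charDegree_of_eq h2]
      exact Nat.Coprime.coprime_dvd_left h3 hcop
    · exact Subtype.ext (Subtype.ext (funext fun n => χ.2 n))
  rw [Finset.sum_congr rfl fun θ _ => h1 θ, Finset.sum_const, smul_eq_mul, Finset.card_univ,
    Nat.card_eq_fintype_card (α := {θ : IrrCharacter K // CInv K (θ : K → ℂ)})]

end Cfsg.Agent.H595.Count
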