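import Cfsg.Agent.CharDeep.DegreeBound
import Cfsg.Agent.Blocks.Deflate
import Cfsg.Agent.H595.GoUp
import Cfsg.Agent.H595.Conj
import Cfsg.Agent.H595.Count
set_option linter.all false

/-!
# Invariant characters over a central subgroup

* `over_central` : a character over a linear character of a central subgroup;
* `descend` : an irreducible character trivial on the kernel of a surjective homomorphism comes
  from the image;
* `Pow` : `Z ≤ A` central in `Q`, the Hall subgroup of `A` for the primes of `|A : Z|`.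
-/

set_option autoImplicit false
set_option linter.unusedSectionVars false
set_option linter.style.haveILetI false

namespace Cfsg.Agent.H595.Central

open Cfsg
open scoped ComplexConjugate
open Cfsg.Agent.Characters.Core
open Cfsg.Agent.H595.Solv Cfsg.Agent.H595.Count

/-- The character of a linear homomorphism. -/
theorem isIrr_hom {A : Type*} [Group A] (l : A →* ℂˣ) : IsIrrCharacter A (fun a => (l a : ℂ)) := by
  have h := Cfsg.Agent.CharactersDeep.ExtUnique.isIrr_mul_hom (isIrr_one (G := A)) l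
  have h2 : (fun g : A => (1 : A → ℂ) g * (l g : ℂ)) = fun a => (l a : ℂ) := by
    funext a
    rw [Pi.one_apply, one_mul]
  rwa [h2] at h

/-- The irreducible character of a linear homomorphism. -/
noncomputable def homIrr {A : Type*} [Group A] (l : A →* ℂˣ) : IrrCharacter A := ⟨_, isIrr_hom l⟩

theorem homIrr_apply {A : Type*} [Group A] (l : A →* ℂˣ) (a : A) : (homIrr l : A → ℂ) a = l a := rfl

/-- Central elements act by the scalars of any constituent. -/
theorem over_central {A : Type*} [Group A] [Fintype A] {N : Type*} [Group N] [Fintype N]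
    (j : N →* A) (hj : ∀ n, j n ∈ Subgroup.center A) (χ : IrrCharacter A) (l : N →* ℂˣ)
    (h : classInner ((χ : A → ℂ) ∘ j) (homIrr l : N → ℂ) ≠ 0) (g : A) (n : N) :
    (χ : A → ℂ) (g * j n) = (χ : A → ℂ) g * l n := by
  obtain ⟨w, -, hw⟩ := Cfsg.Agent.CharDeep.DegreeBound.exists_omega χ.2 (hj n)
  have h1 : classInner ((χ : A → ℂ) ∘ j) (homIrr l : N → ℂ) =
      w * conj (l n : ℂ) * classInner ((χ : A → ℂ) ∘ j) (homIrr l : N → ℂ) := by
    have h0 : ∑ x : N, ((χ : A → ℂ) ∘ j) x * conj ((homIrr l : N → ℂ) x) =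
        w * conj (l n : ℂ) * ∑ x : N, ((χ : A → ℂ) ∘ j) x * conj ((homIrr l : N → ℂ) x) := by
      calc ∑ x : N, ((χ : A → ℂ) ∘ j) x * conj ((homIrr l : N → ℂ) x) =
          ∑ x : N, ((χ : A → ℂ) ∘ j) (x * n) * conj ((homIrr l : N → ℂ) (x * n)) :=
            (Fintype.sum_equiv (Equiv.mulRight n) _ _ (fun x => rfl)).symm
        _ = _ := by
            rw [Finset.mul_sum]
            refine Finset.sum_congr rfl fun x _ => ?_
            rw [Function.comp_apply, Function.comp_apply, homIrr_apply, homIrr_apply, map_mul,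
              map_mul, Units.val_mul, hw, map_mul]
            ring
    conv_lhs => rw [classInner_def, h0]
    rw [classInner_def]
    ring
  have h2 : w * conj (l n : ℂ) = 1 := by
    have h3 : (w * conj (l n : ℂ) - 1) * classInner ((χ : A → ℂ) ∘ j) (homIrr l : N → ℂ) = 0 := by
      rw [sub_mul, ← h1, one_mul, sub_self]
    exact sub_eq_zero.1 ((mul_eq_zero.1 h3).resolve_right h)
  have h3 : conj (l n : ℂ) * (l n : ℂ) = 1 := by
    have h4 : ((l n⁻¹ : ℂˣ) : ℂ) = conj (l n : ℂ) :=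
      isCharacter_apply_inv (isIrr_isCharacter (isIrr_hom l)) n
    rw [← h4, map_inv, ← Units.val_mul, inv_mul_cancel, Units.val_one]
  have h4 : w = l n := by
    calc w = w * (conj (l n : ℂ) * (l n : ℂ)) := by rw [h3, mul_one]
      _ = l n := by rw [← mul_assoc, h2, one_mul]
  rw [hw, h4, mul_comm]

/-- An irreducible character which is trivial on the kernel of a surjective homomorphism. -/
theorem descend {X Y : Type*} [Group X] [Group Y] [Finite X] (f : X →* Y)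
    (hf : Function.Surjective f) (ψ : IrrCharacter X)
    (hψ : ∀ x k, f k = 1 → (ψ : X → ℂ) (x * k) = (ψ : X → ℂ) x) :
    ∃ χ : IrrCharacter Y, ∀ x, (χ : Y → ℂ) (f x) = (ψ : X → ℂ) x := by
  have := Fintype.ofFinite f.ker
  obtain ⟨χ', hχ'⟩ := Cfsg.Agent.Blocks.Deflate.exists_deflation f.ker (ψ : X → ℂ) ψ.2 (by
    rw [Finset.sum_congr rfl fun n _ => show (ψ : X → ℂ) ((n : f.ker) : X) = (ψ : X → ℂ) 1 by
      have := hψ 1 (n : X) n.2
      rwa [one_mul] at this, Finset.sum_const, nsmul_eq_mul]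
    refine mul_ne_zero ?_ (isIrr_apply_one_ne_zero ψ.2)
    exact Nat.cast_ne_zero.2 (Finset.card_ne_zero.2 ⟨1, Finset.mem_univ _⟩))
  let e := QuotientGroup.quotientKerEquivOfSurjective f hf
  refine ⟨twist e.symm χ', fun x => ?_⟩
  rw [twist_apply, hχ']
  have h1 : e.symm (f x) = (x : X ⧸ f.ker) := by
    rw [MulEquiv.symm_apply_eq]
    rfl
  exact congrArg (χ' : X ⧸ f.ker → ℂ) h1

section Pow

variable {Q : Type*} [Group Q]

open scoped IsMulCommutative in
/-- Powers with exponent divisible by the index of a central subgroup are multiplicative. -/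
theorem mul_pow_index {A : Type*} [Group A] [Finite A] (Z : Subgroup A) (hZ : Z ≤ Subgroup.center A)
    (a b : A) : (a * b) ^ Z.index = a ^ Z.index * b ^ Z.index ∧ a ^ Z.index ∈ Z := by
  have hcomm : IsMulCommutative Z := ⟨⟨fun x y => Subtype.ext
    (Subgroup.mem_center_iff.1 (hZ y.2) (x : A))⟩⟩
  let φ : Z →* Z := MonoidHom.id Z
  have key : ∀ (g : A) (k : ℕ) (g₀ : A), g₀⁻¹ * g ^ k * g₀ ∈ Z → g₀⁻¹ * g ^ k * g₀ = g ^ k := by
    intro g k g₀ h
    have h1 := Subgroup.mem_center_iff.1 (hZ h) g₀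
    have h2 : g ^ k = g₀ * (g₀⁻¹ * g ^ k * g₀) * g₀⁻¹ := by group
    conv_rhs => rw [h2, h1, mul_assoc, mul_inv_cancel, mul_one]
  have h1 : ∀ g : A, ((MonoidHom.transfer φ g : Z) : A) = g ^ Z.index := by
    intro g
    rw [MonoidHom.transfer_eq_pow φ g (key g)]
    rfl
  have h3 : ∀ g : A, g ^ Z.index ∈ Z := fun g => MonoidHom.transfer_eq_pow_aux g (key g)
  refine ⟨?_, h3 a⟩
  rw [← h1, ← h1, ← h1, map_mul, Subgroup.coe_mul]

theorem mul_pow_of_dvd {A : Type*} [Group A] [Finite A] (Z : Subgroup A)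
    (hZ : Z ≤ Subgroup.center A) {m : ℕ} (hm : Z.index ∣ m) (a b : A) :
    (a * b) ^ m = a ^ m * b ^ m ∧ a ^ m ∈ Z := by
  obtain ⟨k, rfl⟩ := hm
  obtain ⟨h1, h2⟩ := mul_pow_index Z hZ a b
  rw [pow_mul, pow_mul, pow_mul, h1]
  have h3 : Commute (a ^ Z.index) (b ^ Z.index) :=
    (Subgroup.mem_center_iff.1 (hZ h2) (b ^ Z.index)).symm
  exact ⟨h3.mul_pow k, Subgroup.pow_mem _ h2 k⟩

variable [Finite Q]

/-- `Z ≤ A ⊴ Q`, `Z` central in `Q`, and `m` an exponent which is divisible by the index of `Z` in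
`A`, and by the `q`-parts of the orders of the elements of `A`, for the primes `q` dividing the
index. -/
structure PowHyp (A Z : Subgroup Q) (m : ℕ) : Prop where
  normal : A.Normal
  central : Z ≤ Subgroup.center Q
  le : Z ≤ A
  dvd : Z.relIndex A ∣ m
  prime : ∀ q : ℕ, q.Prime → q ∣ m → q ∣ Z.relIndex A
  pow : ∀ q : ℕ, q.Prime → q ∣ Z.relIndex A → ∀ k, q ^ k ∣ Nat.card A → q ^ k ∣ m

theorem exists_powHyp {A Z : Subgroup Q} (hA : A.Normal) (hZ : Z ≤ Subgroup.center Q)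
    (hZA : Z ≤ A) : ∃ m, PowHyp A Z m := by
  refine ⟨Z.relIndex A ^ (Nat.card A + 1), hA, hZ, hZA, dvd_pow_self _ (Nat.succ_ne_zero _),
    fun q hq h => hq.dvd_of_dvd_pow h, fun q hq h k hk => ?_⟩
  have h1 : q ^ k ≤ Nat.card A := Nat.le_of_dvd Nat.card_pos hk
  have h2 : k < q ^ k := Nat.lt_pow_self hq.one_lt
  exact (pow_dvd_pow q (by omega)).trans (pow_dvd_pow_of_dvd h _)

variable {A Z : Subgroup Q} {m : ℕ}

theorem PowHyp.mul_pow (h : PowHyp A Z m) {a b : Q} (ha : a ∈ A) (hb : b ∈ A) :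
    (a * b) ^ m = a ^ m * b ^ m := by
  have h1 : Z.subgroupOf A ≤ Subgroup.center A := by
    intro z hz
    rw [Subgroup.mem_center_iff]
    intro g
    exact Subtype.ext (Subgroup.mem_center_iff.1 (h.central hz) (g : Q))
  have h2 := (mul_pow_of_dvd (Z.subgroupOf A) h1 h.dvd ⟨a, ha⟩ ⟨b, hb⟩).1
  exact congrArg Subtype.val h2

theorem PowHyp.pow_mem (h : PowHyp A Z m) {a : Q} (ha : a ∈ A) : a ^ m ∈ Z := by
  have h1 : Z.subgroupOf A ≤ Subgroup.center A := by
    intro z hz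
    rw [Subgroup.mem_center_iff]
    intro g
    exact Subtype.ext (Subgroup.mem_center_iff.1 (h.central hz) (g : Q))
  exact (mul_pow_of_dvd (Z.subgroupOf A) h1 h.dvd ⟨a, ha⟩ 1).2

/-- The Hall subgroup of `A` for the primes dividing `|A : Z|`. -/
def PowHyp.A0 (h : PowHyp A Z m) : Subgroup Q where
  carrier := {a | a ∈ A ∧ a ^ m = 1}
  mul_mem' {a b} ha hb := ⟨mul_mem ha.1 hb.1, by rw [h.mul_pow ha.1 hb.1, ha.2, hb.2, one_mul]⟩
  one_mem' := ⟨one_mem A, one_pow m⟩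
  inv_mem' {a} ha := ⟨inv_mem ha.1, by rw [inv_pow, ha.2, inv_one]⟩

theorem PowHyp.mem_A0 (h : PowHyp A Z m) {a : Q} : a ∈ h.A0 ↔ a ∈ A ∧ a ^ m = 1 := Iff.rfl

theorem PowHyp.A0_le (h : PowHyp A Z m) : h.A0 ≤ A := fun _ ha => ha.1

theorem PowHyp.A0_normal (h : PowHyp A Z m) : h.A0.Normal := by
  constructor
  intro a ha g
  refine ⟨h.normal.conj_mem a ha.1 g, ?_⟩
  rw [conj_pow, ha.2, mul_one, mul_inv_cancel]

/-- The primes dividing the order of `A0`. -/
theorem PowHyp.prime_dvd (h : PowHyp A Z m) {q : ℕ} (hq : q.Prime) (hd : q ∣ Nat.card h.A0) :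
    q ∣ Z.relIndex A := by
  have : Fact q.Prime := ⟨hq⟩
  obtain ⟨x, hx⟩ := exists_prime_orderOf_dvd_card' q hd
  refine h.prime q hq ?_
  rw [← hx, ← Subgroup.orderOf_coe]
  exact orderOf_dvd_of_pow_eq_one x.2.2

/-- The primes dividing the index of `Z` do not divide the index of `A0`. -/
theorem PowHyp.not_dvd (h : PowHyp A Z m) {q : ℕ} (hq : q.Prime) (hd : q ∣ Z.relIndex A) :
    ¬ q ∣ h.A0.relIndex A := by
  have : Fact q.Prime := ⟨hq⟩
  intro h1
  let P : Sylow q A := default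
  have h2 : (P : Subgroup A) ≤ h.A0.subgroupOf A := by
    intro x hx
    refine ⟨x.2, ?_⟩
    obtain ⟨k, hk⟩ := IsPGroup.iff_orderOf.1 P.2 ⟨x, hx⟩
    rw [Subgroup.orderOf_mk] at hk
    have h3 : orderOf (x : Q) = q ^ k := by rw [Subgroup.orderOf_coe, hk]
    show (x : Q) ^ m = 1
    rw [← orderOf_dvd_iff_pow_eq_one, h3]
    refine h.pow q hq hd k ?_
    rw [← hk]
    exact orderOf_dvd_natCard x
  have h3 : h.A0.relIndex A ∣ (P : Subgroup A).index := Subgroup.index_dvd_of_le h2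
  exact P.not_dvd_index (h1.trans h3)

theorem PowHyp.coprime (h : PowHyp A Z m) : (h.A0.relIndex A).Coprime (Z.relIndex A) := by
  refine Nat.Coprime.symm (Nat.coprime_of_dvd fun q hq h1 h2 => h.not_dvd hq h1 h2)

/-- `A0` is a Hall subgroup of `Q`. -/
theorem PowHyp.hall (h : PowHyp A Z m) (hcop : (A.index).Coprime (Z.relIndex A)) :
    (Nat.card h.A0).Coprime h.A0.index := by
  refine Nat.coprime_of_dvd fun q hq h1 h2 => ?_
  have h3 := h.prime_dvd hq h1
  rw [← Subgroup.relIndex_mul_index h.A0_le] at h2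
  rcases (Nat.Prime.dvd_mul hq).1 h2 with h4 | h4
  · exact h.not_dvd hq h3 h4
  · have := Nat.dvd_gcd h4 h3
    rw [hcop] at this
    exact hq.one_lt.ne' (Nat.dvd_one.1 this)

/-- `A = A0 Z`. -/
theorem PowHyp.exists_mul (h : PowHyp A Z m) {a : Q} (ha : a ∈ A) :
    ∃ b ∈ h.A0, ∃ z ∈ Z, a = b * z := by
  have hn := h.A0_normal
  have h1 : h.A0 ⊔ Z ≤ A := sup_le h.A0_le h.le
  have h2 : (h.A0 ⊔ Z).relIndex A ∣ h.A0.relIndex A :=
    Subgroup.index_dvd_of_le (Subgroup.comap_mono le_sup_left)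
  have h3 : (h.A0 ⊔ Z).relIndex A ∣ Z.relIndex A :=
    Subgroup.index_dvd_of_le (Subgroup.comap_mono le_sup_right)
  have h4 : (h.A0 ⊔ Z).relIndex A = 1 := by
    have := Nat.dvd_gcd h2 h3
    rw [h.coprime] at this
    exact Nat.dvd_one.1 this
  have h5 : a ∈ ((h.A0 ⊔ Z : Subgroup Q) : Set Q) := (Subgroup.relIndex_eq_one.1 h4) ha
  rw [Subgroup.normal_mul] at h5
  obtain ⟨b, hb, z, hz, hbz⟩ := Set.mem_mul.1 h5
  exact ⟨b, hb, z, hz, hbz.symm⟩

/-- A complement of `A0` is solvable if `Q / A` is. -/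
theorem PowHyp.solvable [hAn : A.Normal] (h : PowHyp A Z m) (hsol : Group.IsSolvable (Q ⧸ A))
    (S : Subgroup Q) (hS : Disjoint h.A0 S) : Group.IsSolvable S := by
  let f : (A.subgroupOf S) →* S := (A.subgroupOf S).subtype
  let g : S →* Q ⧸ A := (QuotientGroup.mk' A).comp S.subtype
  have hcomm : ∀ x y : A.subgroupOf S, x * y = y * x := by
    intro x y
    apply Subtype.ext
    apply Subtype.ext
    have hx : ((x : S) : Q) ∈ A := x.2
    have hy : ((y : S) : Q) ∈ A := y.2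
    -- the commutator lies in `A0 ⊓ S`
    have h1 : (((x : S) : Q) * (y : S) * ((x : S) : Q)⁻¹ * ((y : S) : Q)⁻¹) ^ m = 1 := by
      have hx1 : ((x : S) : Q) * (y : S) ∈ A := mul_mem hx hy
      have hx2 : ((x : S) : Q) * (y : S) * ((x : S) : Q)⁻¹ ∈ A := mul_mem hx1 (inv_mem hx)
      rw [h.mul_pow hx2 (inv_mem hy), h.mul_pow hx1 (inv_mem hx), h.mul_pow hx hy, inv_pow,
        inv_pow]
      have h2 : ((x : S) : Q) ^ m * ((y : S) : Q) ^ m = ((y : S) : Q) ^ m * ((x : S) : Q) ^ m :=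
        (Subgroup.mem_center_iff.1 (h.central (h.pow_mem hy)) _)
      rw [h2, mul_inv_cancel_right, mul_inv_cancel]
    have h2 : ((x : S) : Q) * (y : S) * ((x : S) : Q)⁻¹ * ((y : S) : Q)⁻¹ = 1 := by
      refine Subgroup.disjoint_def.1 hS ⟨?_, h1⟩ ?_
      · exact mul_mem (mul_mem (mul_mem hx hy) (inv_mem hx)) (inv_mem hy)
      · exact mul_mem (mul_mem (mul_mem (x : S).2 (y : S).2) (inv_mem (x : S).2))
          (inv_mem (y : S).2)
    show ((x : S) : Q) * (y : S) = (y : S) * (x : S)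
    exact mul_inv_eq_iff_eq_mul.1 (mul_inv_eq_one.1 h2)
  have hs1 : Group.IsSolvable (A.subgroupOf S) := Group.isSolvable_of_comm hcomm
  refine Group.isSolvable_of_ker_le_range f g ?_
  intro x hx
  have h1 : ((x : S) : Q) ∈ A := (QuotientGroup.eq_one_iff _).1 hx
  exact ⟨⟨x, h1⟩, rfl⟩

end Pow

/-- Invariance under `Q = K H`. -/
theorem cinv_of {Q : Type*} [Group Q] (K H : Subgroup Q) [hK : K.Normal]
    (hKH : K ⊔ H = ⊤) (θ : IrrCharacter K)
    (h : ∀ h ∈ H, ∀ n n' : K, (n' : Q) = h * n * h⁻¹ → (θ : K → ℂ) n' = (θ : K → ℂ) n) :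
    CInv K (θ : K → ℂ) := by
  intro x n
  have hx' : x ∈ ((K ⊔ H : Subgroup Q) : Set Q) := by rw [hKH]; exact Set.mem_univ _
  rw [Subgroup.normal_mul] at hx'
  obtain ⟨k, hk, y, hy, rfl⟩ := Set.mem_mul.1 hx'
  have h1 : (⟨k * y * n * (k * y)⁻¹, hK.conj_mem n n.2 (k * y)⟩ : K) =
      ⟨k, hk⟩ * ⟨y * n * y⁻¹, hK.conj_mem n n.2 y⟩ * ⟨k, hk⟩⁻¹ := by
    apply Subtype.ext
    show k * y * n * (k * y)⁻¹ = k * (y * n * y⁻¹) * k⁻¹
    group
  rw [h1, isIrr_isClassFunction θ.2]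
  exact h y hy n _ rfl

/-- **The central case.** From the Hall subgroup `A0` to `A`. -/
theorem extend_central {Q : Type*} [Group Q] [Finite Q] {A Z : Subgroup Q} [hA : A.Normal]
    {m : ℕ} (h : PowHyp A Z m) (l : Z →* ℂˣ) [hA0 : h.A0.Normal] [Fintype h.A0]
    (χ0 : IrrCharacter h.A0) (hinv : CInv h.A0 (χ0 : h.A0 → ℂ))
    (hl : ∀ (a b : h.A0) (z : Z), (b : Q) = z → (χ0 : h.A0 → ℂ) (a * b) = (χ0 : h.A0 → ℂ) a * l z) :
    ∃ β : IrrCharacter A, CInv A (β : A → ℂ) ∧ ∀ (a : A) (z : Z),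
      (β : A → ℂ) (a * ⟨z, h.le z.2⟩) = (β : A → ℂ) a * l z := by
  have hzc : ∀ (z : Z) (x : Q), x * z = z * x := fun z x => Subgroup.mem_center_iff.1
    (h.central z.2) x
  let f : h.A0 × Z →* A :=
    { toFun := fun x => ⟨(x.1 : Q) * x.2, mul_mem (h.A0_le x.1.2) (h.le x.2.2)⟩
      map_one' := Subtype.ext (by
        show ((1 : h.A0) : Q) * ((1 : Z) : Q) = ((1 : A) : Q)
        rw [OneMemClass.coe_one, OneMemClass.coe_one, OneMemClass.coe_one, one_mul])
      map_mul' := fun x y => Subtype.ext (by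
        show (x.1 : Q) * y.1 * (x.2 * y.2) = x.1 * x.2 * (y.1 * y.2)
        rw [mul_assoc, ← mul_assoc (y.1 : Q), hzc x.2 y.1]
        group) }
  have hfc : ∀ x, ((f x : A) : Q) = (x.1 : Q) * x.2 := fun _ => rfl
  have hf : Function.Surjective f := by
    intro a
    obtain ⟨b, hb, z, hz, hbz⟩ := h.exists_mul a.2
    exact ⟨(⟨b, hb⟩, ⟨z, hz⟩), Subtype.ext hbz.symm⟩
  let ψ : IrrCharacter (h.A0 × Z) := ⟨fun x => ((χ0 : h.A0 → ℂ) ∘ (MonoidHom.fst h.A0 Z)) x *
    (l.comp (MonoidHom.snd h.A0 Z)) x,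
    Cfsg.Agent.CharactersDeep.ExtUnique.isIrr_mul_hom
      (isIrr_comp (MonoidHom.fst h.A0 Z) (fun a => ⟨(a, 1), rfl⟩) χ0.2) _⟩
  have hψ : ∀ x : h.A0 × Z, (ψ : h.A0 × Z → ℂ) x = (χ0 : h.A0 → ℂ) x.1 * l x.2 := fun _ => rfl
  obtain ⟨β, hβ⟩ := descend f hf ψ (by
    rintro ⟨a, z⟩ ⟨b, w⟩ hk
    have h1 : (b : Q) * w = 1 := by
      have := congrArg Subtype.val hk
      exact this
    have h2 : (b : Q) = ((w⁻¹ : Z) : Q) := by
      rw [Subgroup.coe_inv]
      exact eq_inv_of_mul_eq_one_left h1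
    rw [hψ, hψ]
    show (χ0 : h.A0 → ℂ) (a * b) * ((l (z * w) : ℂˣ) : ℂ) = (χ0 : h.A0 → ℂ) a * (l z : ℂ)
    have h3 : w⁻¹ * (z * w) = z := Subtype.ext (by
      show (w : Q)⁻¹ * ((z : Q) * w) = z
      rw [hzc w z, inv_mul_cancel_left])
    rw [hl a b w⁻¹ h2, mul_assoc, ← Units.val_mul, ← map_mul, h3])
  refine ⟨β, ?_, ?_⟩
  · intro x a
    obtain ⟨⟨b, z⟩, rfl⟩ := hf a
    have h1 : (⟨x * (f (b, z) : A) * x⁻¹, hA.conj_mem _ (f (b, z)).2 x⟩ : A) =
        f (⟨x * b * x⁻¹, hA0.conj_mem b b.2 x⟩, z) := by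
      apply Subtype.ext
      show x * ((b : Q) * z) * x⁻¹ = x * b * x⁻¹ * z
      rw [mul_assoc _ x⁻¹ _, hzc z x⁻¹]
      group
    rw [h1, hβ, hβ, hψ, hψ]
    show (χ0 : h.A0 → ℂ) _ * _ = _
    rw [hinv]
  · intro a z
    obtain ⟨⟨b, w⟩, rfl⟩ := hf a
    have h1 : (f (b, w) : A) * ⟨z, h.le z.2⟩ = f (b, w * z) := by
      apply Subtype.ext
      show (b : Q) * w * z = b * (w * z)
      rw [mul_assoc]
    rw [h1, hβ, hβ, hψ, hψ, map_mul, Units.val_mul, mul_assoc]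

/-- **The central case**, `Q / A` solvable. -/
theorem central_case {Q : Type*} [Group Q] [Finite Q] (A Z : Subgroup Q) [hA : A.Normal]
    (hZ : Z ≤ Subgroup.center Q) (hZA : Z ≤ A) (hcop : (A.index).Coprime (Z.relIndex A))
    (hsol : Group.IsSolvable (Q ⧸ A)) (l : Z →* ℂˣ) :
    ∃ β : IrrCharacter A, CInv A (β : A → ℂ) ∧ ∀ (a : A) (z : Z),
      (β : A → ℂ) (a * ⟨z, hZA z.2⟩) = (β : A → ℂ) a * l z := by
  obtain ⟨m, h⟩ := exists_powHyp hA hZ hZA
  have hA0 := h.A0_normal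
  have := Fintype.ofFinite h.A0
  obtain ⟨S, hS⟩ := Subgroup.exists_right_complement'_of_coprime (h.hall hcop)
  have hSs := h.solvable hsol S hS.disjoint
  have hcard : (Nat.card h.A0).Coprime (Nat.card S) := by
    rw [← hS.symm.index_eq_card]
    exact h.hall hcop
  let NN : Subgroup Q := Z ⊓ h.A0
  have := Fintype.ofFinite NN
  have hn1 : ∀ s ∈ S, ∀ g ∈ h.A0, s * g * s⁻¹ ∈ h.A0 := fun s _ g hg => hA0.conj_mem g hg s
  have hn2 : ∀ s ∈ S, ∀ g ∈ NN, s * g * s⁻¹ ∈ NN := fun s _ g hg => by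
    have h1 : s * g * s⁻¹ = g := by
      rw [Subgroup.mem_center_iff.1 (hZ hg.1) s, mul_inv_cancel_right]
    rw [h1]
    exact hg
  letI := Cfsg.Agent.H595.Conj.conjAct h.A0 S hn1
  letI := Cfsg.Agent.H595.Conj.conjAct NN S hn2
  have hNA : NN ≤ h.A0 := inf_le_right
  have hNZ : NN ≤ Z := inf_le_left
  obtain ⟨χ, hχ, hover⟩ := Cfsg.Agent.H595.GoUp.going_up (S := S) (G := h.A0) (N := NN) hSs hcard
    (Subgroup.inclusion hNA) (Subgroup.inclusion_injective hNA) (by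
      constructor
      rintro _ ⟨n, rfl⟩ g
      refine ⟨n, Subtype.ext ?_⟩
      show (n : Q) = (g : Q) * n * (g : Q)⁻¹
      rw [Subgroup.mem_center_iff.1 (hZ (hNZ n.2)) (g : Q), mul_inv_cancel_right])
    (fun s n => Subtype.ext rfl) (homIrr (l.comp (Subgroup.inclusion hNZ))) (by
      intro s n
      have h1 : s • n = n := Subtype.ext (by
        show (s : Q) * n * (s : Q)⁻¹ = n
        rw [Subgroup.mem_center_iff.1 (hZ (hNZ n.2)) (s : Q), mul_inv_cancel_right])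
      rw [h1])
  have hoc := over_central (Subgroup.inclusion hNA) (fun n => by
    rw [Subgroup.mem_center_iff]
    intro g
    exact Subtype.ext (Subgroup.mem_center_iff.1 (hZ (hNZ n.2)) (g : Q))) χ
    (l.comp (Subgroup.inclusion hNZ)) hover
  exact extend_central h l χ
    (cinv_of h.A0 S hS.sup_eq_top χ ((Cfsg.Agent.H595.Conj.inv_iff h.A0 S hn1 _).2 hχ))
    (by
      intro a b z hbz
      have h1 : (b : Q) ∈ NN := ⟨by rw [hbz]; exact z.2, b.2⟩
      have h2 := hoc a ⟨b, h1⟩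
      have h3 : (Subgroup.inclusion hNZ) (⟨b, h1⟩ : NN) = z := Subtype.ext hbz
      rw [MonoidHom.comp_apply, h3] at h2
      exact h2)

end Cfsg.Agent.H595.Central
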