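import Cfsg.Agent.CharDeep.TripleCover
import Cfsg.Agent.CharactersDeep.Extraspecial
import Cfsg.Agent.CharactersDeep.IndFun
import Cfsg.Agent.S0856
import Cfsg.Agent.H595.Central
set_option linter.all false

/-!
# Reduction to the central case (character triples)

`N ≤ G` normal subgroups of the finite group `Γ`, `θ ∈ Irr(N)` invariant in `Γ`: there are a finite
group `Q` with a normal subgroup `A` and a central subgroup `Z ≤ A`, with `Q / Z ≅ Γ / N`,
`A / Z ≅ G / N` (only the indices and solvability are stated) and a linear character `l` of `Z`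
such that the irreducible characters of `A` over `l` give irreducible characters of `G` over `θ`.
-/

set_option autoImplicit false
set_option linter.unusedSectionVars false
set_option linter.style.haveILetI false

namespace Cfsg.Agent.H595.Triple

open Cfsg
open scoped ComplexConjugate
open Cfsg.Agent.Characters.Core
open Cfsg.Agent.H595.Solv Cfsg.Agent.H595.Count Cfsg.Agent.H595.Central
open Cfsg.Agent.CharDeep.ProjExt Cfsg.Agent.CharDeep.TripleCover

universe u

/-- Products of an irreducible character which is irreducible on `L` with an irreducible character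
of the quotient by `L`. -/
theorem isIrr_mul_inflate {X : Type*} [Group X] [Finite X] (L : Subgroup X) [L.Normal]
    {χ : X → ℂ} (hχ : IsIrrCharacter X χ) (hχL : IsIrrCharacter L (fun n : L => χ n))
    {β : X → ℂ} (hβ : IsIrrCharacter X β) (hβL : ∀ x ∈ L, β x = β 1) :
    IsIrrCharacter X (fun x => β x * χ x) := by
  have := Fintype.ofFinite X
  have := Fintype.ofFinite L
  have h := Cfsg.Agent.S0856.result L (1 : L → ℂ) (fun n : L => χ n) isIrr_one hχL
    (fun _ _ => rfl) (fun g n => isIrr_isClassFunction hχ (n : X) g)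
    (by rw [one_mul]; exact hχL) χ hχ (fun _ => rfl)
  refine (h.mapsTo ⟨hβ, ?_⟩).1
  rw [Cfsg.Agent.CharactersDeep.IndFun.classInner_indFun L _ _ (isIrr_isClassFunction hβ)]
  rw [classInner_def]
  have h1 : ∑ g : L, (1 : L → ℂ) g * conj (β g) = ∑ _g : L, conj (β 1) :=
    Finset.sum_congr rfl fun g _ => by rw [hβL g g.2, Pi.one_apply, one_mul]
  rw [h1, Finset.sum_const, nsmul_eq_mul]
  refine mul_ne_zero (inv_ne_zero card_ne_zero_complex) (mul_ne_zero ?_ ?_)
  · exact Nat.cast_ne_zero.2 (Finset.card_ne_zero.2 ⟨1, Finset.mem_univ _⟩)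
  · exact (map_ne_zero _).2 (isIrr_apply_one_ne_zero hβ)

/-- A character is irreducible if its composition with a homomorphism is. -/
theorem isIrr_of_comp {X Y : Type*} [Group X] [Group Y] [Finite X] [Finite Y] (f : Y →* X)
    {χ : X → ℂ} (hχ : IsCharacter X χ) (h : IsIrrCharacter Y (χ ∘ f)) : IsIrrCharacter X χ := by
  obtain ⟨n, ρ, rfl⟩ := hχ
  refine isIrrCharacter_of_rep ρ ?_
  refine Cfsg.Agent.CharactersDeep.IrrEquiv.isIrreducible_of_comp ρ f ?_
  refine isIrreducible_of_isIrrCharacter (G := Y)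
    (MonoidHom.comp ρ f : Representation ℂ Y (Fin n → ℂ)) ?_
  exact h

/-- The setting of the reduction: an extension `Δ` of `Γ` by a central subgroup, a normal subgroup
`L` of `Δ` mapped isomorphically onto `N`, and an irreducible character of `Δ` extending `θ`. -/
structure Cov {Γ : Type*} [Group Γ] (N : Subgroup Γ) (θ : N → ℂ) (Δ : Type*) [Group Δ]
    (π : Δ →* Γ) (s : N →* Δ) (χR : Δ → ℂ) : Prop where
  surj : Function.Surjective π
  ker_le : π.ker ≤ Subgroup.center Δ
  section_ : ∀ n, π (s n) = n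
  normal : s.range.Normal
  irr : IsIrrCharacter Δ χR
  ext : ∀ n, χR (s n) = θ n

theorem exists_cov {Γ : Type u} [Group Γ] [Finite Γ] (N : Subgroup Γ) [hN : N.Normal]
    (θ : IrrCharacter N) (hinv : CInv N (θ : N → ℂ)) :
    ∃ (Δ : Type u) (_ : Group Δ) (_ : Finite Δ) (π : Δ →* Γ) (s : N →* Δ) (χR : Δ → ℂ),
      Cov N (θ : N → ℂ) Δ π s χR := by
  obtain ⟨k, ρ, hρ, hθ⟩ := θ.2
  have hinv' : ∀ (g : Γ) (n : N), ρ.character (MulAut.conjNormal g n) = ρ.character n := by
    intro g n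
    rw [hθ, ← hinv g n]
    congr 1
  obtain ⟨Δ, hfin, hΔ, hsurj, hsec, hker⟩ := exists_finite_cover ρ hρ hinv'
  let s : N →* Δ := (sec ρ).codRestrict Δ hsec
  have hRs : ∀ n, coverRep Δ (s n) = ρ n := fun n => sec_snd ρ n
  refine ⟨Δ, inferInstance, hfin, proj Δ, s, (coverRep Δ).character, hsurj, hker,
    fun n => rfl, ?_, ?_, ?_⟩
  · constructor
    rintro _ ⟨n, rfl⟩ x
    exact ⟨MulAut.conjNormal x.1.1 n, Subtype.ext (conj_sec ρ x.1 (hΔ x.2) n).symm⟩
  · refine isIrrCharacter_of_rep _ ?_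
    refine Cfsg.Agent.CharactersDeep.IrrEquiv.isIrreducible_of_comp (coverRep Δ) s ?_
    have : (MonoidHom.comp (coverRep Δ) s : Representation ℂ N (Fin k → ℂ)) = ρ :=
      MonoidHom.ext fun n => hRs n
    rw [this]
    exact hρ
  · intro n
    rw [← hθ]
    show LinearMap.trace ℂ _ (coverRep Δ (s n)) = LinearMap.trace ℂ _ (ρ n)
    rw [hRs]

section Red

variable {Γ : Type u} [Group Γ] {N : Subgroup Γ} {θ : N → ℂ} {Δ : Type u} [Group Δ]
  {π : Δ →* Γ} {s : N →* Δ} {χR : Δ → ℂ}

/-- The kernel of the projection meets the copy of `N` trivially. -/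
theorem Cov.disj (h : Cov N θ Δ π s χR) {x : Δ} (h1 : π x = 1) (h2 : x ∈ s.range) : x = 1 := by
  obtain ⟨n, rfl⟩ := h2
  rw [h.section_] at h1
  have : n = 1 := Subtype.ext h1
  rw [this, map_one]

theorem Cov.comap_eq (h : Cov N θ Δ π s χR) (x : Δ) (hx : π x ∈ N) :
    ∃ n : N, ∃ z, π z = 1 ∧ x = s n * z := by
  refine ⟨⟨π x, hx⟩, (s ⟨π x, hx⟩)⁻¹ * x, ?_, ?_⟩
  · rw [map_mul, map_inv, h.section_, inv_mul_cancel]
  · rw [mul_inv_cancel_left]

variable [Finite Γ] [Finite Δ]

/-- The data of the reduction to the central case. -/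
theorem Cov.reduce [hN : N.Normal] (h : Cov N θ Δ π s χR) (G : Subgroup Γ) [hG : G.Normal]
    (hNG : N ≤ G) (hθ : IsIrrCharacter N θ) :
    ∃ (Q : Type u) (_ : Group Q) (_ : Finite Q) (A Z : Subgroup Q) (_ : A.Normal) (_ : Z.Normal) (hZA : Z ≤ A)
      (l : Z →* ℂˣ), Z ≤ Subgroup.center Q ∧ A.index = G.index ∧
      Z.relIndex A = N.relIndex G ∧
      (Group.IsSolvable (Γ ⧸ G) → Group.IsSolvable (Q ⧸ A)) ∧
      (Group.IsSolvable (G ⧸ N.subgroupOf G) → Group.IsSolvable (A ⧸ Z.subgroupOf A)) ∧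
      ∀ β : IrrCharacter A,
        (∀ (a : A) (z : Z), (β : A → ℂ) (a * ⟨z, hZA z.2⟩) = (β : A → ℂ) a * l z) →
        ∃ χ : IrrCharacter G, (∀ n : N, (χ : G → ℂ) ⟨n, hNG n.2⟩ = (β : A → ℂ) 1 * θ n) ∧
          (CInv A (β : A → ℂ) → CInv G (χ : G → ℂ)) := by
  have hLn := h.normal
  let L : Subgroup Δ := s.range
  let mk : Δ →* Δ ⧸ L := QuotientGroup.mk' L
  have hmk : Function.Surjective mk := QuotientGroup.mk'_surjective L
  have hkmk : mk.ker = L := QuotientGroup.ker_mk' L
  let Gh : Subgroup Δ := G.comap π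
  have hLG : L ≤ Gh := by
    rintro _ ⟨n, rfl⟩
    show π (s n) ∈ G
    rw [h.section_]
    exact hNG n.2
  let A : Subgroup (Δ ⧸ L) := Gh.map mk
  let Z : Subgroup (Δ ⧸ L) := π.ker.map mk
  have hAn : A.Normal := (inferInstance : Gh.Normal).map mk hmk
  have hZn : Z.Normal := (inferInstance : π.ker.Normal).map mk hmk
  have hkG : π.ker ≤ Gh := fun x hx => by
    show π x ∈ G
    rw [(MonoidHom.mem_ker.1 hx)]
    exact one_mem G
  have hZA : Z ≤ A := Subgroup.map_mono hkG
  have hZc : Z ≤ Subgroup.center (Δ ⧸ L) := by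
    rintro _ ⟨z, hz, rfl⟩
    rw [Subgroup.mem_center_iff]
    intro q
    obtain ⟨x, rfl⟩ := hmk q
    rw [← map_mul, ← map_mul, Subgroup.mem_center_iff.1 (h.ker_le hz) x]
  -- preimages of the subgroups of `Q`
  have hAcomap : A.comap mk = Gh := by
    rw [Subgroup.comap_map_eq, hkmk, sup_eq_left.2 hLG]
  have hZcomap : Z.comap mk = N.comap π := by
    rw [Subgroup.comap_map_eq, hkmk]
    apply le_antisymm
    · refine sup_le (fun x hx => ?_) ?_
      · show π x ∈ N
        rw [MonoidHom.mem_ker.1 hx]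
        exact one_mem N
      · rintro _ ⟨n, rfl⟩
        show π (s n) ∈ N
        rw [h.section_]
        exact n.2
    · intro x hx
      obtain ⟨n, z, hz, rfl⟩ := h.comap_eq x hx
      exact mul_mem (Subgroup.mem_sup_right ⟨n, rfl⟩) (Subgroup.mem_sup_left hz)
  have hAi : A.index = G.index := by
    rw [← Subgroup.index_comap_of_surjective A hmk, hAcomap,
      Subgroup.index_comap_of_surjective G h.surj]
  have hZi : Z.index = N.index := by
    rw [← Subgroup.index_comap_of_surjective Z hmk, hZcomap,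
      Subgroup.index_comap_of_surjective N h.surj]
  have hrel : Z.relIndex A = N.relIndex G := by
    have h1 := Subgroup.relIndex_mul_index hZA
    have h2 := Subgroup.relIndex_mul_index hNG
    rw [hZi, ← h2, hAi] at h1
    exact Nat.eq_of_mul_eq_mul_right (Nat.pos_of_ne_zero G.index_ne_zero_of_finite) h1
  -- the linear character of `Z`
  obtain ⟨c, hc, -⟩ := Cfsg.Agent.CharactersDeep.Extraspecial.exists_central_hom h.irr
  let c' : π.ker →* ℂˣ := c.comp (Subgroup.inclusion h.ker_le)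
  have hc' : ∀ (x : Δ) (z : π.ker), χR (x * z) = χR x * c' z := fun x z =>
    hc x (Subgroup.inclusion h.ker_le z)
  let f : π.ker →* Z := (mk.comp π.ker.subtype).codRestrict Z (fun z => ⟨z, z.2, rfl⟩)
  have hfb : Function.Bijective f := by
    constructor
    · rw [injective_iff_map_eq_one]
      intro z hz
      have h1 : mk (z : Δ) = 1 := congrArg (fun y : Z => (y : Δ ⧸ L)) hz
      have h2 : (z : Δ) ∈ L := (QuotientGroup.eq_one_iff _).1 h1
      exact Subtype.ext (h.disj (MonoidHom.mem_ker.1 z.2) h2)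
    · rintro ⟨_, z, hz, rfl⟩
      exact ⟨⟨z, hz⟩, rfl⟩
  let e : π.ker ≃* Z := MulEquiv.ofBijective f hfb
  let l : Z →* ℂˣ := (c'⁻¹).comp e.symm.toMonoidHom
  have hl : ∀ z : π.ker, l (e z) = (c' z)⁻¹ := by
    intro z
    show (c'⁻¹) (e.symm (e z)) = _
    rw [e.symm_apply_apply]
    rfl
  refine ⟨Δ ⧸ L, inferInstance, inferInstance, A, Z, hAn, hZn, hZA, l, hZc, hAi, hrel, ?_, ?_, ?_⟩
  · -- solvability of the quotients
    intro hs
    let g1 : Δ →* Γ ⧸ G := (QuotientGroup.mk' G).comp π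
    let g2 : Δ →* (Δ ⧸ L) ⧸ A := (QuotientGroup.mk' A).comp mk
    have hg12 : ∀ x ∈ g1.ker, g2 x = 1 := by
      intro x hx
      have h1 : π x ∈ G := (QuotientGroup.eq_one_iff _).1 hx
      exact (QuotientGroup.eq_one_iff _).2 ⟨x, h1, rfl⟩
    have hs1 : Group.IsSolvable (Δ ⧸ g1.ker) :=
      Group.isSolvable_of_isSolvable_injective (QuotientGroup.kerLift_injective g1)
    refine Group.isSolvable_of_surjective (f := QuotientGroup.lift g1.ker g2 hg12) ?_
    intro y
    obtain ⟨q, rfl⟩ := QuotientGroup.mk'_surjective A y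
    obtain ⟨x, rfl⟩ := hmk q
    exact ⟨(x : Δ ⧸ g1.ker), rfl⟩
  · intro hs
    let π' : Gh →* G := (π.comp Gh.subtype).codRestrict G (fun x => x.2)
    let m' : Gh →* A := (mk.comp Gh.subtype).codRestrict A (fun x => ⟨x, x.2, rfl⟩)
    let g1 : Gh →* G ⧸ N.subgroupOf G := (QuotientGroup.mk' _).comp π'
    let g2 : Gh →* A ⧸ Z.subgroupOf A := (QuotientGroup.mk' _).comp m'
    have hg12 : ∀ x ∈ g1.ker, g2 x = 1 := by
      intro x hx
      have h1 : π' x ∈ N.subgroupOf G := (QuotientGroup.eq_one_iff _).1 hx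
      have h2 : (x : Δ) ∈ N.comap π := h1
      rw [← hZcomap] at h2
      exact (QuotientGroup.eq_one_iff _).2 h2
    have hs1 : Group.IsSolvable (Gh ⧸ g1.ker) :=
      Group.isSolvable_of_isSolvable_injective (QuotientGroup.kerLift_injective g1)
    refine Group.isSolvable_of_surjective (f := QuotientGroup.lift g1.ker g2 hg12) ?_
    intro y
    obtain ⟨⟨q, hq⟩, rfl⟩ := QuotientGroup.mk'_surjective _ y
    obtain ⟨x, hx, rfl⟩ := hq
    exact ⟨((⟨x, hx⟩ : Gh) : Gh ⧸ g1.ker), rfl⟩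
  · intro β hβ
    let π' : Gh →* G := (π.comp Gh.subtype).codRestrict G (fun x => x.2)
    have hπ' : Function.Surjective π' := by
      rintro ⟨g, hg⟩
      obtain ⟨x, rfl⟩ := h.surj g
      exact ⟨⟨x, hg⟩, rfl⟩
    let m' : Gh →* A := (mk.comp Gh.subtype).codRestrict A (fun x => ⟨x, x.2, rfl⟩)
    have hm' : Function.Surjective m' := by
      rintro ⟨_, x, hx, rfl⟩
      exact ⟨⟨x, hx⟩, rfl⟩
    let s' : N →* Gh := s.codRestrict Gh (fun n => hLG ⟨n, rfl⟩)
    have hLn' : (L.subgroupOf Gh).Normal := inferInstance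
    -- the product character of `Gh`
    have hirr : IsIrrCharacter Gh (fun x => (β : A → ℂ) (m' x) * χR x) := by
      have hχN : IsIrrCharacter N (fun n => χR (s n)) := by
        have : (fun n => χR (s n)) = θ := funext h.ext
        rw [this]
        exact hθ
      have hχG : IsCharacter Gh (fun x : Gh => χR x) :=
        isCharacter_comp Gh.subtype (isIrr_isCharacter h.irr)
      let s'' : N →* L.subgroupOf Gh := s'.codRestrict (L.subgroupOf Gh) (fun n => ⟨n, rfl⟩)
      refine isIrr_mul_inflate (L.subgroupOf Gh) (χ := fun x : Gh => χR x)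
        (isIrr_of_comp s' hχG hχN) (isIrr_of_comp s'' (isCharacter_comp
          (L.subgroupOf Gh).subtype hχG) hχN) (isIrr_comp m' hm' β.2) ?_
      · intro x hx
        have h1 : m' x = 1 := Subtype.ext ((QuotientGroup.eq_one_iff _).2 hx)
        show (β : A → ℂ) (m' x) = (β : A → ℂ) (m' 1)
        rw [h1, map_one]
    let ψ : IrrCharacter Gh := ⟨_, hirr⟩
    have hψ : ∀ x, (ψ : Gh → ℂ) x = (β : A → ℂ) (m' x) * χR x := fun _ => rfl
    obtain ⟨χ, hχ⟩ := descend π' hπ' ψ (by
      intro x k hk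
      have hk' : π (k : Δ) = 1 := congrArg Subtype.val hk
      have h1 : m' k = ⟨(e ⟨k, hk'⟩ : Δ ⧸ L), hZA (e ⟨k, hk'⟩).2⟩ := rfl
      rw [hψ, hψ, map_mul, h1, hβ, hl]
      have h2 : χR ((x * k : Gh) : Δ) = χR x * c' ⟨k, hk'⟩ := hc' x ⟨k, hk'⟩
      rw [h2, Units.val_inv_eq_inv_val]
      have h3 : ((c' ⟨k, hk'⟩ : ℂˣ) : ℂ) ≠ 0 := Units.ne_zero _
      field_simp)
    refine ⟨χ, ?_, ?_⟩
    · intro n
      have h1 : (⟨n, hNG n.2⟩ : G) = π' (s' n) := Subtype.ext (h.section_ n).symm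
      rw [h1, hχ, hψ]
      have h2 : m' (s' n) = 1 := Subtype.ext ((QuotientGroup.eq_one_iff _).2 ⟨n, rfl⟩)
      rw [h2]
      congr 1
      exact h.ext n
    · intro hinv x g
      obtain ⟨y, rfl⟩ := h.surj x
      obtain ⟨w, rfl⟩ := hπ' g
      have hGhn : Gh.Normal := inferInstance
      let w' : Gh := ⟨y * w * y⁻¹, hGhn.conj_mem w w.2 y⟩
      have h1 : (⟨π y * (π' w : G) * (π y)⁻¹, hG.conj_mem _ (π' w).2 (π y)⟩ : G) = π' w' := by
        apply Subtype.ext
        show π y * π w * (π y)⁻¹ = π (y * w * y⁻¹)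
        rw [map_mul, map_mul, map_inv]
      rw [h1, hχ, hχ, hψ, hψ]
      have h2 : m' w' = ⟨mk y * (m' w : A) * (mk y)⁻¹, hAn.conj_mem _ (m' w).2 (mk y)⟩ := by
        apply Subtype.ext
        show mk (y * w * y⁻¹) = mk y * mk w * (mk y)⁻¹
        rw [map_mul, map_mul, map_inv]
      rw [h2, hinv]
      congr 1
      exact isIrr_isClassFunction h.irr (w : Δ) y

end Red

end Cfsg.Agent.H595.Triple
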