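import Cfsg.Agent.H634.Cols
import Cfsg.Agent.H649.Transport
import Cfsg.Agent.FastGrp
import Cfsg.Agent.Prune
set_option linter.all false
prune_inst 0x7f00000000000000000000000000000000000000000000000000000000000000000000000000000000000000000000000000000000000000000000000000000000000000000000000000000000000000003fffffffffffffffffffffffffffbeffbdffffffff
open scoped Cfsg.Agent.FastGrp

/-!
# Principal block of a group with abelian Sylow `p`-subgroup and inertial index a prime

`card_principal` : `e k(B₀) = e |A| l(B₀) + (|P| - |A|)` where `A ≤ P` is central, no element of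
`P` outside `A` is centralized by `N_G(P)` and `e = |N_G(P) : C_G(P)|` is a prime.
-/

set_option autoImplicit false
set_option linter.unusedSectionVars false

namespace Cfsg.Agent.H595.AbCount

open Cfsg Cfsg.Agent.Blocks.Basic Cfsg.Agent.Blocks.Local Module Subgroup

universe u

variable {G : Type u} [Group G] [Finite G] {p : ℕ} [Fact p.Prime] {M : Ideal AlgInt}

/-- Burnside's transfer theorem. -/
theorem hnc_of_le (P : Sylow p G)
    (h : normalizer ((P : Subgroup G) : Set G) ≤ centralizer ((P : Subgroup G) : Set G)) :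
    HasNormalPComplement p G :=
  ⟨P, (MonoidHom.transferSylow P h).ker, MonoidHom.normal_ker _,
    MonoidHom.ker_transferSylow_isComplement' P h⟩

theorem rank_of_eq {H K : Subgroup G} (h : H = K) :
    blockRank p (principalBlock M H) = blockRank p (principalBlock M K) := by
  subst h; rfl

theorem rank_equiv {G' : Type*} [Group G'] [Finite G'] (e : G ≃* G') :
    blockRank p (principalBlock M G) = blockRank p (principalBlock M G') := by
  rw [← H649.blkMap_principalBlock e, H649.blockRank_blkMap]

theorem card_equiv {G' : Type*} [Group G'] [Finite G'] (e : G ≃* G') :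
    Nat.card (principalBlock M G) = Nat.card (principalBlock M G') := by
  rw [← H649.blkMap_principalBlock e]
  exact (Nat.card_image_of_injective (H649.irrMap_injective e) _).symm

theorem rank_of_eq_top {H : Subgroup G} (hH : H = ⊤) :
    blockRank p (principalBlock M H) = blockRank p (principalBlock M G) := by
  subst hH
  exact rank_equiv Subgroup.topEquiv

theorem rank_conj {x y : G} (h : IsConj x y) :
    blockRank p (principalBlock M (centralizer ({x} : Set G))) =
      blockRank p (principalBlock M (centralizer ({y} : Set G))) := by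
  obtain ⟨c, hc⟩ := isConj_iff.1 h
  have h1 : centralizer ({y} : Set G) =
      (centralizer ({x} : Set G)).map (MulAut.conj c).toMonoidHom := by
    rw [← hc]
    exact H649.centralizer_singleton_map (MulAut.conj c) x
  rw [rank_of_eq h1]
  exact rank_equiv ((MulAut.conj c).subgroupMap (centralizer ({x} : Set G)))

section

variable (P : Sylow p G) {e : ℕ}

theorem inf_le {u : G} (hu : u ∈ (P : Subgroup G))
    (he : (centralizer ((P : Subgroup G) : Set G)).relIndex
      (normalizer ((P : Subgroup G) : Set G)) = e) (hpe : e.Prime)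
    (hnu : ¬ normalizer ((P : Subgroup G) : Set G) ≤ centralizer ({u} : Set G)) :
    normalizer ((P : Subgroup G) : Set G) ⊓ centralizer ({u} : Set G) ≤
      centralizer ((P : Subgroup G) : Set G) ∧
    (normalizer ((P : Subgroup G) : Set G) ⊓ centralizer ({u} : Set G)).relIndex
      (normalizer ((P : Subgroup G) : Set G)) = e := by
  have h1 : centralizer ((P : Subgroup G) : Set G) ≤
      normalizer ((P : Subgroup G) : Set G) ⊓ centralizer ({u} : Set G) :=
    _root_.le_inf (centralizer_le_normalizer _) (centralizer_le (Set.singleton_subset_iff.2 hu))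
  have h2 := relIndex_mul_relIndex _ _ _ h1 (inf_le_left :
    normalizer ((P : Subgroup G) : Set G) ⊓ centralizer ({u} : Set G) ≤ _)
  rw [he] at h2
  have h3 : (normalizer ((P : Subgroup G) : Set G) ⊓ centralizer ({u} : Set G)).relIndex
      (normalizer ((P : Subgroup G) : Set G)) ≠ 1 := by
    rw [Ne, relIndex_eq_one]
    exact fun h => hnu (h.trans inf_le_right)
  rcases hpe.eq_one_or_self_of_dvd _ ⟨_, h2.symm⟩ with h | h
  · rw [h, one_mul] at h2
    exact ⟨relIndex_eq_one.1 h, h2⟩
  · rw [h] at h2
    exact absurd (Nat.eq_of_mul_eq_mul_left hpe.pos (h2.trans (mul_one e).symm)) h3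

theorem hnc_centralizer
    (hab : ∀ x ∈ (P : Subgroup G), ∀ y ∈ (P : Subgroup G), x * y = y * x) {u : G}
    (hu : u ∈ (P : Subgroup G))
    (he : (centralizer ((P : Subgroup G) : Set G)).relIndex
      (normalizer ((P : Subgroup G) : Set G)) = e) (hpe : e.Prime)
    (hnu : ¬ normalizer ((P : Subgroup G) : Set G) ≤ centralizer ({u} : Set G)) :
    HasNormalPComplement p (centralizer ({u} : Set G)) := by
  have hPH : (P : Subgroup G) ≤ centralizer ({u} : Set G) := by
    intro x hx
    rw [mem_centralizer_singleton_iff]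
    exact hab x hx u hu
  apply hnc_of_le (P.subtype hPH)
  intro h hh
  have h1 := (inf_le P hu he hpe hnu).1
  have h2 : (h : G) ∈ normalizer ((P : Subgroup G) : Set G) := by
    rw [mem_normalizer_iff] at hh ⊢
    intro g
    constructor
    · intro hg
      have := (hh ⟨g, hPH hg⟩).1 (mem_subgroupOf.2 hg)
      exact mem_subgroupOf.1 this
    · intro hg
      have h5 : g ∈ centralizer ({u} : Set G) := by
        have h6 := hPH hg
        have h7 := mul_mem (mul_mem (inv_mem h.2) h6) h.2
        have h8 : (h : G)⁻¹ * (h * g * (h : G)⁻¹) * h = g := by group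
        rwa [h8] at h7
      have := (hh ⟨g, h5⟩).2 (mem_subgroupOf.2 hg)
      exact mem_subgroupOf.1 this
  have h3 := h1 ⟨h2, h.2⟩
  rw [mem_centralizer_iff]
  intro g hg
  apply Subtype.ext
  exact mem_centralizer_iff.1 h3 g (mem_subgroupOf.1 hg)

theorem rank_centralizer (hM : IsPModular p M)
    (hab : ∀ x ∈ (P : Subgroup G), ∀ y ∈ (P : Subgroup G), x * y = y * x) {u : G}
    (hu : u ∈ (P : Subgroup G))
    (he : (centralizer ((P : Subgroup G) : Set G)).relIndex
      (normalizer ((P : Subgroup G) : Set G)) = e) (hpe : e.Prime)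
    (hnu : ¬ normalizer ((P : Subgroup G) : Set G) ≤ centralizer ({u} : Set G)) :
    blockRank p (principalBlock M (centralizer ({u} : Set G))) = 1 := by
  have : Fintype ↥(centralizer ({u} : Set G)) := Fintype.ofFinite _
  exact S4646.rank_one_of_compl hM (hnc_centralizer P hab hu he hpe hnu)

theorem ncard_conj (hab : ∀ x ∈ (P : Subgroup G), ∀ y ∈ (P : Subgroup G), x * y = y * x) {u : G}
    (hu : u ∈ (P : Subgroup G))
    (he : (centralizer ((P : Subgroup G) : Set G)).relIndex
      (normalizer ((P : Subgroup G) : Set G)) = e) (hpe : e.Prime)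
    (hnu : ¬ normalizer ((P : Subgroup G) : Set G) ≤ centralizer ({u} : Set G)) :
    {v : G | v ∈ (P : Subgroup G) ∧ IsConj v u}.ncard = e := by
  have hcomm : IsMulCommutative (P : Subgroup G) :=
    ⟨⟨fun x y => Subtype.ext (hab x x.2 y y.2)⟩⟩
  set N := normalizer ((P : Subgroup G) : Set G) with hN
  let _ : MulAction N G := MulAction.compHom G ((MulAut.conj (G := G)).comp N.subtype)
  have hsm : ∀ (n : N) (g : G), n • g = (n : G) * g * (n : G)⁻¹ := fun n g => rfl
  have h1 : MulAction.orbit N u = {v : G | v ∈ (P : Subgroup G) ∧ IsConj v u} := by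
    ext v
    constructor
    · rintro ⟨n, rfl⟩
      refine ⟨?_, ?_⟩
      · show n • u ∈ _
        rw [hsm]
        exact (mem_normalizer_iff.1 n.2 u).1 hu
      · show IsConj (n • u) u
        rw [hsm]
        exact IsConj.symm (isConj_iff.2 ⟨n, rfl⟩)
    · rintro ⟨hv, hc⟩
      obtain ⟨g, hg⟩ := isConj_iff.1 hc.symm
      obtain ⟨n, hn, h⟩ := P.conj_eq_normalizer_conj_of_mem u g⁻¹ hu (by
        rw [inv_inv, hg]; exact hv)
      rw [inv_inv, hg] at h
      refine ⟨⟨n⁻¹, N.inv_mem hn⟩, ?_⟩
      show (⟨n⁻¹, N.inv_mem hn⟩ : N) • u = v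
      rw [hsm, h]
      simp
  have h2 : MulAction.stabilizer N u = (N ⊓ centralizer ({u} : Set G)).subgroupOf N := by
    ext n
    rw [MulAction.mem_stabilizer_iff, hsm, mem_subgroupOf, mem_inf,
      mem_centralizer_singleton_iff]
    constructor
    · intro h
      exact ⟨n.2, mul_inv_eq_iff_eq_mul.1 h⟩
    · rintro ⟨-, h⟩
      exact mul_inv_eq_iff_eq_mul.2 h
  rw [← h1, ← MulAction.index_stabilizer, h2]
  exact (inf_le P hu he hpe hnu).2

end

theorem exists_conj_mem (P : Sylow p G) {x : G} (hx : ∃ k : ℕ, orderOf x = p ^ k) :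
    ∃ v ∈ (P : Subgroup G), IsConj x v := by
  obtain ⟨k, hk⟩ := hx
  have h1 : IsPGroup p (zpowers x) := by
    refine IsPGroup.of_card (n := k) ?_
    rw [Nat.card_zpowers, hk]
  obtain ⟨Q, hQ⟩ := h1.exists_le_sylow
  obtain ⟨a, ha⟩ := MulAction.exists_smul_eq G Q P
  refine ⟨a * x * a⁻¹, ?_, isConj_iff.2 ⟨a, rfl⟩⟩
  rw [← ha]
  exact Subgroup.smul_mem_pointwise_smul x (MulAut.conj a) _ (hQ (mem_zpowers x))

/-- **The number of characters in the principal block.** -/
theorem card_principal (hM : IsPModular p M) (P : Sylow p G) {e : ℕ}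
    (hab : ∀ x ∈ (P : Subgroup G), ∀ y ∈ (P : Subgroup G), x * y = y * x)
    (he : (centralizer ((P : Subgroup G) : Set G)).relIndex
      (normalizer ((P : Subgroup G) : Set G)) = e) (hpe : e.Prime)
    (A : Subgroup G) (hAP : A ≤ (P : Subgroup G)) (hAc : A ≤ center G)
    (hA : ∀ u ∈ (P : Subgroup G), u ∉ A →
      ¬ normalizer ((P : Subgroup G) : Set G) ≤ centralizer ({u} : Set G)) :
    e * Nat.card (principalBlock M G) =
      e * (Nat.card A * blockRank p (principalBlock M G)) +
        (Nat.card (P : Subgroup G) - Nat.card A) := by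
  classical
  have := Fintype.ofFinite G
  obtain ⟨X, -, hX, hXrep⟩ := H634.Cols.exists_reps (p := p) (∅ : Finset G) (by simp) (by simp)
  rw [H634.Cols.card_principal_eq hM X hX hXrep, Finset.mul_sum]
  set r₀ := blockRank p (principalBlock M G) with hr₀
  let Pf : Finset G := Finset.univ.filter fun g => g ∈ (P : Subgroup G)
  let w : G → ℕ := fun u => if u ∈ A then e * r₀ else 1
  have hcentral : ∀ {a x : G}, a ∈ A → IsConj a x → a = x := by
    intro a x ha h
    obtain ⟨c, hc⟩ := isConj_iff.1 h
    have h1 := mem_center_iff.1 (hAc ha) c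
    rw [← hc, h1, mul_inv_cancel_right]
  have key : ∀ x ∈ X, e * blockRank p (principalBlock M (centralizer ({x} : Set G))) =
      ∑ u ∈ Pf.filter (fun u => IsConj u x), w u := by
    intro x hx
    obtain ⟨v, hv, hxv⟩ := exists_conj_mem P (hX x hx)
    by_cases hvA : v ∈ A
    · have hvx := hcentral hvA hxv.symm
      subst hvx
      have h1 : Pf.filter (fun u => IsConj u v) = {v} := by
        ext u
        simp only [Finset.mem_filter, Finset.mem_univ, true_and, Finset.mem_singleton, Pf]
        constructor
        · rintro ⟨-, h⟩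
          exact (hcentral hvA h.symm).symm
        · rintro rfl
          exact ⟨hv, IsConj.refl _⟩
      rw [h1, Finset.sum_singleton]
      show _ = if v ∈ A then e * r₀ else 1
      rw [if_pos hvA, rank_of_eq_top]
      rw [eq_top_iff]
      intro g _
      rw [mem_centralizer_singleton_iff]
      exact mem_center_iff.1 (hAc hvA) g
    · have hnA : ∀ u ∈ Pf.filter (fun u => IsConj u x), w u = 1 := by
        intro u hu
        rw [Finset.mem_filter] at hu
        refine if_neg fun huA => hvA ?_
        have h1 := hcentral huA (hu.2.trans hxv)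
        rwa [h1] at huA
      rw [Finset.sum_congr rfl hnA, Finset.sum_const, smul_eq_mul, mul_one, rank_conj hxv,
        rank_centralizer P hM hab hv he hpe (hA v hv hvA), mul_one,
        ← ncard_conj P hab hv he hpe (hA v hv hvA), ← Set.ncard_coe_finset]
      congr 1
      ext u
      simp only [Finset.coe_filter, Finset.mem_filter, Finset.mem_univ, true_and,
        Set.mem_ofPred_eq, Pf]
      exact ⟨fun h => ⟨h.1, h.2.trans hxv.symm⟩, fun h => ⟨h.1, h.2.trans hxv⟩⟩
  rw [Finset.sum_congr rfl key]
  have h1 : ∑ x ∈ X, ∑ u ∈ Pf.filter (fun u => IsConj u x), w u = ∑ u ∈ Pf, w u := by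
    have h2 : ∀ x ∈ X, ∑ u ∈ Pf.filter (fun u => IsConj u x), w u =
        ∑ u ∈ Pf, if IsConj u x then w u else 0 := fun x _ => by rw [Finset.sum_filter]
    rw [Finset.sum_congr rfl h2, Finset.sum_comm]
    refine Finset.sum_congr rfl fun u hu => ?_
    have huP : u ∈ (P : Subgroup G) := (Finset.mem_filter.1 hu).2
    have hpu : ∃ k : ℕ, orderOf u = p ^ k := by
      obtain ⟨k, hk⟩ := (IsPGroup.iff_orderOf.1 P.2) ⟨u, huP⟩
      exact ⟨k, by rw [← hk, Subgroup.orderOf_mk]⟩
    obtain ⟨x, ⟨hxX, hxu⟩, huniq⟩ := hXrep u hpu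
    rw [Finset.sum_eq_single x, if_pos hxu]
    · intro y hy hne
      rw [if_neg]
      exact fun h => hne (huniq y ⟨hy, h⟩)
    · intro h; exact absurd hxX h
  rw [h1]
  have hcardPf : Pf.card = Nat.card (P : Subgroup G) := by
    rw [Nat.card_eq_fintype_card, Fintype.card_subtype]
  have hfA : Pf.filter (fun u => u ∈ A) = Finset.univ.filter (fun u => u ∈ A) := by
    ext u
    simp only [Finset.mem_filter, Finset.mem_univ, true_and, Pf]
    exact ⟨fun h => h.2, fun h => ⟨hAP h, h⟩⟩
  have hcA : (Pf.filter (fun u => u ∈ A)).card = Nat.card A := by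
    rw [hfA, Nat.card_eq_fintype_card, Fintype.card_subtype]
  rw [← Finset.sum_filter_add_sum_filter_not Pf (fun u => u ∈ A)]
  have h3 : ∑ u ∈ Pf.filter (fun u => u ∈ A), w u = Nat.card A * (e * r₀) := by
    rw [Finset.sum_congr rfl (fun u hu => (if_pos (Finset.mem_filter.1 hu).2 : w u = e * r₀)),
      Finset.sum_const, smul_eq_mul, hcA]
  have h4 : ∑ u ∈ Pf.filter (fun u => ¬ u ∈ A), w u = Nat.card (P : Subgroup G) - Nat.card A := by
    rw [Finset.sum_congr rfl (fun u hu => (if_neg (Finset.mem_filter.1 hu).2 : w u = 1)),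
      Finset.sum_const, smul_eq_mul, mul_one, ← hcardPf, ← hcA]
    have := Finset.card_filter_add_card_filter_not (s := Pf) (fun u => u ∈ A)
    omega
  rw [h3, h4]
  ring

end Cfsg.Agent.H595.AbCount
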