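import Cfsg.Agent.H306.AbEight
import Cfsg.Agent.Walter.LastCase_mg_m3
import Cfsg.Agent.H595.AbCount
import Cfsg.Agent.H595.NormalRank
import Cfsg.Agent.S4551
import Cfsg.Agent.S4571
import Cfsg.Agent.WeakTI.PslTwo
import Cfsg.Agent.H700.PRatExt
import Cfsg.Agent.H608.Klein
import Cfsg.Agent.S0969
import Cfsg.Agent.S2300
import Cfsg.Agent.S2331
import Cfsg.Agent.S4512
import Cfsg.Agent.S4652
import Cfsg.Agent.FastGrp
import Cfsg.Agent.Prune
set_option linter.all false
open scoped Cfsg.Agent.FastGrp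

-- part: H595/AbTwo
section
/-!
# Groups with `O(X) = 1`, abelian Sylow `2`-subgroups and prime inertial index: structure
-/

set_option autoImplicit false
set_option linter.unusedSectionVars false

namespace Cfsg.Agent.H595.AbTwo

open Subgroup Cfsg
open Cfsg.Agent.SignalizersComponents
open Cfsg.Agent.SignalizersComponents.Components
open Cfsg.Agent.Walter
open Cfsg.Agent.Walter.Types

universe u

variable {X : Type u} [Group X] [Finite X] {S : Sylow 2 X} {K L : Subgroup X} {e : ℕ}

/-- a component exists in the nonsolvable case -/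
theorem exists_component (hodd : H306.AbSolv.OddSolv.{u}) (hO : pPrimeCore 2 X = ⊥)
    (hS : ∀ a ∈ (S : Subgroup X), ∀ b ∈ (S : Subgroup X), a * b = b * a)
    (hns : ¬ Group.IsSolvable X) : ∃ K : Subgroup X, IsComponent K := by
  by_contra hno
  have hl : layer X = ⊥ := by
    rw [layer, eq_bot_iff]
    exact sSup_le (fun K hK => (hno ⟨K, hK⟩).elim)
  have h1 := AbStruct.genFitting_eq hO
  rw [hl, sup_bot_eq] at h1
  have h2 := AbStruct.odd_index hO hS
  rw [h1] at h2
  have hn : (pCore 2 X).Normal := Lib.Cores.pCore_normal 2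
  have h3 : Group.IsSolvable (pCore 2 X) := by
    have := (Lib.Cores.pCore_isPGroup (G := X) 2).isNilpotent
    infer_instance
  have h4 : Group.IsSolvable (X ⧸ pCore 2 X) := hodd _ h2
  exact hns (Group.isSolvable_of_ker_le_range (pCore 2 X).subtype
    (QuotientGroup.mk' (pCore 2 X)) (by simp))

/-- elements of `K` normalizing `S ∩ K` normalize `S` -/
theorem mem_normalizer_of (hO : pPrimeCore 2 X = ⊥)
    (hS : ∀ a ∈ (S : Subgroup X), ∀ b ∈ (S : Subgroup X), a * b = b * a)
    (hK : IsComponent K) {k : X} (hk : k ∈ K)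
    (hkn : ∀ s ∈ (S : Subgroup X) ⊓ K, k * s * k⁻¹ ∈ (S : Subgroup X) ⊓ K) :
    k ∈ normalizer ((S : Subgroup X) : Set X) := by
  have h1 : (S : Subgroup X).map (MulAut.conj k).toMonoidHom ≤ S := by
    rintro _ ⟨s, hs, rfl⟩
    obtain ⟨a, ha, c, hc, rfl⟩ := AbStruct.exists_inner hO hS hK hs
    show k * (a * c) * k⁻¹ ∈ (S : Subgroup X)
    have h2 : k * c * k⁻¹ = c := by
      have := mem_centralizer_iff.1 hc.2 k hk
      rw [this, mul_inv_cancel_right]
    have h3 : k * (a * c) * k⁻¹ = (k * a * k⁻¹) * (k * c * k⁻¹) := by group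
    rw [h3, h2]
    exact mul_mem (hkn a ha).1 hc.1
  have h4 : (S : Subgroup X).map (MulAut.conj k).toMonoidHom = S := by
    refine Subgroup.eq_of_le_of_card_ge h1 ?_
    rw [Subgroup.card_map_of_injective (MulAut.conj k).injective]
  exact BalanceAux.mem_normalizer_of_map_conj_eq h4

/-- membership in the normalizer of the Sylow subgroup of the component -/
theorem coe_mem_normalizer (hO : pPrimeCore 2 X = ⊥)
    (hS : ∀ a ∈ (S : Subgroup X), ∀ b ∈ (S : Subgroup X), a * b = b * a)
    (hK : IsComponent K) (P : Sylow 2 K) (hP : (P : Subgroup K) = (S : Subgroup X).subgroupOf K)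
    (k : K) : k ∈ normalizer ((P : Subgroup K) : Set K) ↔
      (k : X) ∈ normalizer ((S : Subgroup X) : Set X) := by
  constructor
  · intro h
    refine mem_normalizer_of hO hS hK k.2 ?_
    intro s hs
    have h1 : (⟨s, hs.2⟩ : K) ∈ (P : Subgroup K) := by
      rw [hP]; exact mem_subgroupOf.2 hs.1
    have h2 := (mem_normalizer_iff.1 h _).1 h1
    rw [hP, mem_subgroupOf] at h2
    exact ⟨h2, K.mul_mem (K.mul_mem k.2 hs.2) (K.inv_mem k.2)⟩
  · intro h
    rw [mem_normalizer_iff] at h ⊢
    intro s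
    rw [hP, mem_subgroupOf, mem_subgroupOf]
    exact h s

theorem coe_mem_centralizer (hO : pPrimeCore 2 X = ⊥)
    (hS : ∀ a ∈ (S : Subgroup X), ∀ b ∈ (S : Subgroup X), a * b = b * a)
    (hK : IsComponent K) (P : Sylow 2 K) (hP : (P : Subgroup K) = (S : Subgroup X).subgroupOf K)
    (k : K) : k ∈ centralizer ((P : Subgroup K) : Set K) ↔
      (k : X) ∈ centralizer ((S : Subgroup X) : Set X) := by
  constructor
  · intro h
    rw [mem_centralizer_iff]
    intro s hs
    obtain ⟨a, ha, c, hc, rfl⟩ := AbStruct.exists_inner hO hS hK hs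
    have h1 : (⟨a, ha.2⟩ : K) ∈ (P : Subgroup K) := by
      rw [hP]; exact mem_subgroupOf.2 ha.1
    have h2 : a * (k : X) = k * a := congrArg Subtype.val (mem_centralizer_iff.1 h _ h1)
    have h3 : (k : X) * c = c * k := mem_centralizer_iff.1 hc.2 k k.2
    rw [mul_assoc, ← h3, ← mul_assoc, h2, mul_assoc]
  · intro h
    rw [mem_centralizer_iff]
    intro s hs
    rw [SetLike.mem_coe, hP, mem_subgroupOf] at hs
    exact Subtype.ext (mem_centralizer_iff.1 h s hs)

/-- the normalizer of `S` in a component does not centralize `S` -/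
theorem not_le (hO : pPrimeCore 2 X = ⊥)
    (hS : ∀ a ∈ (S : Subgroup X), ∀ b ∈ (S : Subgroup X), a * b = b * a)
    (hK : IsComponent K) :
    ¬ K ⊓ normalizer ((S : Subgroup X) : Set X) ≤ centralizer ((S : Subgroup X) : Set X) := by
  intro h
  have : Fact (Nat.Prime 2) := ⟨Nat.prime_two⟩
  obtain ⟨P, hP⟩ := AbStruct.exists_sylow S hK
  have h1 : normalizer ((P : Subgroup K) : Set K) ≤ centralizer ((P : Subgroup K) : Set K) := by
    intro k hk
    rw [coe_mem_centralizer hO hS hK P hP]
    rw [coe_mem_normalizer hO hS hK P hP] at hk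
    exact h ⟨k.2, hk⟩
  obtain ⟨Q, N, hN, hc⟩ := AbCount.hnc_of_le P h1
  have hsimp := AbStruct.isSimpleGroup hO hS hK
  rcases hsimp.eq_bot_or_eq_top_of_normal N hN with h2 | h2
  · have h3 : (Q : Subgroup K) = ⊤ := by
      rw [h2] at hc
      exact isComplement'_bot_left.1 hc
    have h4 : Group.IsSolvable K := by
      have h5 : IsPGroup 2 K := by
        have := Q.2
        rw [h3] at this
        exact this.of_equiv Subgroup.topEquiv
      have := h5.isNilpotent
      infer_instance
    exact quasisimple_not_isSolvable hK.2 h4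
  · have h3 : (Q : Subgroup K) = ⊥ := by
      rw [h2] at hc
      exact isComplement'_top_left.1 hc
    have h4 := Q.not_dvd_index
    rw [h3, index_bot] at h4
    exact h4 (AbStruct.two_dvd_card hO hK)

/-- `N(S) = (K ∩ N(S)) C(S)` -/
theorem normalizer_le (hO : pPrimeCore 2 X = ⊥)
    (hS : ∀ a ∈ (S : Subgroup X), ∀ b ∈ (S : Subgroup X), a * b = b * a)
    (he : (centralizer ((S : Subgroup X) : Set X)).relIndex
      (normalizer ((S : Subgroup X) : Set X)) = e) (hpe : e.Prime)
    (hK : IsComponent K) :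
    normalizer ((S : Subgroup X) : Set X) ≤
      (K ⊓ normalizer ((S : Subgroup X) : Set X)) ⊔ centralizer ((S : Subgroup X) : Set X) := by
  set N := normalizer ((S : Subgroup X) : Set X) with hN
  set C := centralizer ((S : Subgroup X) : Set X) with hC
  have h1 : C ≤ (K ⊓ N) ⊔ C := le_sup_right
  have h2 : (K ⊓ N) ⊔ C ≤ N := sup_le inf_le_right (centralizer_le_normalizer _)
  have h3 := relIndex_mul_relIndex _ _ _ h1 h2
  rw [he] at h3
  rcases hpe.eq_one_or_self_of_dvd _ ⟨_, h3.symm⟩ with h | h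
  · exact absurd (le_sup_left.trans (relIndex_eq_one.1 h)) (not_le hO hS hK)
  · rw [h] at h3
    exact relIndex_eq_one.1 (Nat.eq_of_mul_eq_mul_left hpe.pos (h3.trans (mul_one e).symm))

theorem exists_mul_of_mem_normalizer (hO : pPrimeCore 2 X = ⊥)
    (hS : ∀ a ∈ (S : Subgroup X), ∀ b ∈ (S : Subgroup X), a * b = b * a)
    (he : (centralizer ((S : Subgroup X) : Set X)).relIndex
      (normalizer ((S : Subgroup X) : Set X)) = e) (hpe : e.Prime)
    (hK : IsComponent K) {n : X} (hn : n ∈ normalizer ((S : Subgroup X) : Set X)) :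
    ∃ k ∈ K ⊓ normalizer ((S : Subgroup X) : Set X), ∃ c ∈ centralizer ((S : Subgroup X) : Set X),
      n = k * c := by
  have h1 := normalizer_le hO hS he hpe hK hn
  set N := normalizer ((S : Subgroup X) : Set X) with hN
  set C := centralizer ((S : Subgroup X) : Set X) with hC
  have hCN : C ≤ N := centralizer_le_normalizer _
  have h2 : K ⊓ N ≤ normalizer (C : Set X) := by
    intro x hx
    have h3 : x ∈ N := hx.2
    rw [mem_normalizer_iff] at h3 ⊢
    intro g
    have key : ∀ (y : X) (hy : ∀ h : X, h ∈ ((S : Subgroup X) : Set X) ↔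
        y * h * y⁻¹ ∈ ((S : Subgroup X) : Set X)) (g : X), g ∈ C → y * g * y⁻¹ ∈ C := by
      intro y hy g hg
      rw [hC, mem_centralizer_iff] at hg ⊢
      intro s hs
      have h5 : y⁻¹ * s * y ∈ ((S : Subgroup X) : Set X) := by
        rw [hy]
        have : y * (y⁻¹ * s * y) * y⁻¹ = s := by group
        rw [this]; exact hs
      have h6 := hg _ h5
      calc s * (y * g * y⁻¹) = y * ((y⁻¹ * s * y) * g) * y⁻¹ := by group
        _ = y * (g * (y⁻¹ * s * y)) * y⁻¹ := by rw [h6]
        _ = y * g * y⁻¹ * s := by group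
    constructor
    · exact key x h3 g
    · intro hg
      have h7 : x⁻¹ ∈ N := inv_mem hx.2
      rw [mem_normalizer_iff] at h7
      have := key x⁻¹ h7 _ hg
      have h8 : x⁻¹ * (x * g * x⁻¹) * x⁻¹⁻¹ = g := by group
      rwa [h8] at this
  have h3 : n ∈ (((K ⊓ N) ⊔ C : Subgroup X) : Set X) := h1
  rw [coe_mul_of_left_le_normalizer_right _ _ h2] at h3
  obtain ⟨k, hk, c, hc, h⟩ := h3
  exact ⟨k, hk, c, hc, h.symm⟩

/-- the component is unique -/
theorem component_unique (hO : pPrimeCore 2 X = ⊥)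
    (hS : ∀ a ∈ (S : Subgroup X), ∀ b ∈ (S : Subgroup X), a * b = b * a)
    (he : (centralizer ((S : Subgroup X) : Set X)).relIndex
      (normalizer ((S : Subgroup X) : Set X)) = e) (hpe : e.Prime)
    (hK : IsComponent K) (hL : IsComponent L) : L = K := by
  by_contra hne
  have h1 := Cfsg.Agent.S1270.component_comm_of_ne hL hK hne
  rw [commutator_eq_bot_iff_le_centralizer] at h1
  apply not_le hO hS hL
  intro l hl
  obtain ⟨k, hk, c, hc, rfl⟩ := exists_mul_of_mem_normalizer hO hS he hpe hK hl.2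
  rw [mem_centralizer_iff] at hc ⊢
  intro s hs
  obtain ⟨a, ha, b, hb, rfl⟩ := AbStruct.exists_inner hO hS hK hs
  have h2 : a * (k * c) = k * c * a := mem_centralizer_iff.1 (h1 hl.1) a ha.2
  have h3 : k * b = b * k := mem_centralizer_iff.1 hb.2 k hk.1
  have h4 := hc b hb.1
  calc a * b * (k * c) = a * (b * k) * c := by group
    _ = a * (k * b) * c := by rw [h3]
    _ = a * k * (b * c) := by group
    _ = a * k * (c * b) := by rw [h4]
    _ = (a * (k * c)) * b := by group
    _ = (k * c * a) * b := by rw [h2]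
    _ = k * c * (a * b) := by group

end Cfsg.Agent.H595.AbTwo
end

-- part: H595/AbTwoB
section
/-!
# Groups with `O(X) = 1`, abelian Sylow `2`-subgroups and prime inertial index: counting
-/

set_option autoImplicit false
set_option linter.unusedSectionVars false

namespace Cfsg.Agent.H595.AbTwo

open Subgroup Cfsg
open Cfsg.Agent.SignalizersComponents
open Cfsg.Agent.SignalizersComponents.Components
open Cfsg.Agent.Walter
open Cfsg.Agent.Walter.Types

universe u

theorem relIndex_inf_eq {G : Type*} [Group G] {C N D : Subgroup G} (hCN : C ≤ N)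
    (hn : (C.subgroupOf N).Normal) (h : N ≤ (D ⊓ N) ⊔ C) :
    C.relIndex (N ⊓ D) = C.relIndex N := by
  have h1 : (D ⊓ N) ≤ N := inf_le_right
  have h2 : (D ⊓ N).subgroupOf N ⊔ C.subgroupOf N = ⊤ := by
    rw [← subgroupOf_sup h1 hCN, subgroupOf_eq_top]
    exact h
  have h3 := relIndex_sup_right ((D ⊓ N).subgroupOf N) (C.subgroupOf N)
  rw [h2, relIndex_top_right, relIndex_subgroupOf h1] at h3
  rw [inf_comm, ← h3]
  rfl

/-- **Simple groups**: no non-trivial element of the abelian Sylow `2`-subgroup is centralized by its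
normalizer. -/
theorem not_centralized_simple {K : Type*} [Group K] [Finite K] (hK : IsSimpleGroup K)
    (hKc : ¬ IsMulCommutative K) (P : Sylow 2 K)
    (hP : ∀ a ∈ (P : Subgroup K), ∀ b ∈ (P : Subgroup K), a * b = b * a) {u : K}
    (hu : u ∈ (P : Subgroup K)) (hu1 : u ≠ 1) :
    ¬ normalizer ((P : Subgroup K) : Set K) ≤ centralizer ({u} : Set K) := by
  intro h
  have : Fact (Nat.Prime 2) := ⟨Nat.prime_two⟩
  obtain ⟨k, hk⟩ := IsPGroup.iff_orderOf.1 P.2 ⟨u, hu⟩
  rw [Subgroup.orderOf_mk] at hk
  have hk0 : k ≠ 0 := by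
    rintro rfl
    rw [pow_zero] at hk
    exact hu1 (orderOf_eq_one_iff.1 hk)
  set v := u ^ 2 ^ (k - 1) with hv
  have hv2 : orderOf v = 2 := by
    rw [hv, orderOf_pow' u (by positivity), hk]
    have h1 : Nat.gcd (2 ^ k) (2 ^ (k - 1)) = 2 ^ (k - 1) :=
      Nat.gcd_eq_right (pow_dvd_pow 2 (by omega))
    rw [h1, Nat.pow_div (by omega) (by norm_num)]
    have : k - (k - 1) = 1 := by omega
    rw [this, pow_one]
  have hvP : v ∈ (P : Subgroup K) := Subgroup.pow_mem _ hu _
  have hfix : ∀ n ∈ normalizer ((P : Subgroup K) : Set K), n * v * n⁻¹ = v := by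
    intro n hn
    have h1 : n * u = u * n := (mem_centralizer_singleton_iff.1 (h hn))
    have h2 : Commute n v := (show Commute n u from h1).pow_right _
    rw [h2.eq, mul_inv_cancel_right]
  have h1 := AbInner.commutator_mem_core P hP hvP hv2 hfix
  have hn : (pPrimeCore 2 K).Normal := Lib.Cores.pPrimeCore_normal 2
  rcases hK.eq_bot_or_eq_top_of_normal _ hn with h2 | h2
  · have h3 : v ∈ center K := by
      rw [mem_center_iff]
      intro g
      have h4 := h1 g
      rw [h2, mem_bot, commutatorElement_eq_one_iff_mul_comm] at h4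
      exact h4.symm
    rcases hK.eq_bot_or_eq_top_of_normal (center K) inferInstance with h4 | h4
    · rw [h4, mem_bot] at h3
      rw [h3, orderOf_one] at hv2
      omega
    · apply hKc
      refine ⟨⟨fun x y => ?_⟩⟩
      have h5 : y ∈ center K := by rw [h4]; exact mem_top _
      exact mem_center_iff.1 h5 x
  · have h3 : (Nat.card (pPrimeCore 2 K)).Coprime 2 := Lib.Cores.pPrimeCore_coprime 2
    rw [h2, Subgroup.card_top] at h3
    have h4 : 2 ∣ Nat.card K := by rw [← hv2]; exact orderOf_dvd_natCard v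
    have h5 := Nat.dvd_gcd h4 (dvd_refl 2)
    rw [h3] at h5
    omega

variable {X : Type u} [Group X] [Finite X] {S : Sylow 2 X} {K L : Subgroup X} {e : ℕ}

section

variable (hO : pPrimeCore 2 X = ⊥)
  (hS : ∀ a ∈ (S : Subgroup X), ∀ b ∈ (S : Subgroup X), a * b = b * a)
  (he : (centralizer ((S : Subgroup X) : Set X)).relIndex
    (normalizer ((S : Subgroup X) : Set X)) = e) (hpe : e.Prime) (hK : IsComponent K)

include hO hS he hpe hK

theorem layer_eq : layer X = K := by
  rw [layer]
  apply le_antisymm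
  · exact sSup_le fun L hL => (component_unique hO hS he hpe hK hL).le
  · exact le_sSup hK

theorem normal : K.Normal := by
  rw [← layer_eq hO hS he hpe hK]; exact LayerBasic.layer_normal X

theorem inf_centralizer_eq : (S : Subgroup X) ⊓ centralizer (K : Set X) = pCore 2 X := by
  have := AbStruct.inf_centralizer_layer hO hS
  rwa [layer_eq hO hS he hpe hK] at this

theorem pCore_le_center : pCore 2 X ≤ center X := by
  have : Fact (Nat.Prime 2) := ⟨Nat.prime_two⟩
  have hn : (pCore 2 X).Normal := Lib.Cores.pCore_normal 2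
  have hnC : (centralizer (pCore 2 X : Set X)).Normal := inferInstance
  have hAS : pCore 2 X ≤ (S : Subgroup X) := Lib.Cores.pCore_le_sylow S
  have hAK := inf_centralizer_eq hO hS he hpe hK
  have h1 : (S : Subgroup X) ≤ centralizer (pCore 2 X : Set X) := by
    intro s hs
    rw [mem_centralizer_iff]
    intro a ha
    exact hS a (hAS ha) s hs
  have h2 := S.normalizer_sup_eq_top' h1
  have h3 : normalizer ((S : Subgroup X) : Set X) ≤ centralizer (pCore 2 X : Set X) := by
    refine (normalizer_le hO hS he hpe hK).trans (sup_le ?_ ?_)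
    · refine inf_le_left.trans ?_
      intro k hk
      rw [mem_centralizer_iff]
      intro a ha
      rw [← hAK] at ha
      exact (mem_centralizer_iff.1 ha.2 k hk).symm
    · exact centralizer_le hAS
  have h4 : centralizer (pCore 2 X : Set X) = ⊤ := by
    rw [eq_top_iff, ← h2]
    exact sup_le h3 le_rfl
  exact centralizer_eq_top_iff_subset.1 h4

theorem sup_pCore : ((S : Subgroup X) ⊓ K) ⊔ pCore 2 X = S := by
  rw [← inf_centralizer_eq hO hS he hpe hK]
  exact (AbTypes.card_inf_mul hO hS hK).2.1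

theorem card_mul : Nat.card ((S : Subgroup X) ⊓ K : Subgroup X) * Nat.card (pCore 2 X) =
    Nat.card (S : Subgroup X) := by
  rw [← inf_centralizer_eq hO hS he hpe hK]
  exact (AbTypes.card_inf_mul hO hS hK).1

/-- no element of `S` outside `O_2(X)` is centralized by `K ∩ N(S)` -/
theorem not_centralized {u : X} (hu : u ∈ (S : Subgroup X)) (huA : u ∉ pCore 2 X) :
    ¬ K ⊓ normalizer ((S : Subgroup X) : Set X) ≤ centralizer ({u} : Set X) := by
  intro h
  obtain ⟨k, hk, c, hc, rfl⟩ := AbStruct.exists_inner hO hS hK hu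
  rw [inf_centralizer_eq hO hS he hpe hK] at hc
  have hcc := mem_center_iff.1 (pCore_le_center hO hS he hpe hK hc)
  obtain ⟨P, hP⟩ := AbStruct.exists_sylow S hK
  have hkP : (⟨k, hk.2⟩ : K) ∈ (P : Subgroup K) := by rw [hP]; exact mem_subgroupOf.2 hk.1
  refine not_centralized_simple (AbStruct.isSimpleGroup hO hS hK) (AbStruct.not_comm hK) P (by
    rw [hP]; exact AbStruct.comm_subgroupOf hS) hkP ?_ ?_
  · intro h1
    apply huA
    have h2 : k = 1 := congrArg Subtype.val h1
    rw [h2, one_mul]
    exact hc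
  · intro n hn
    have h1 := h ⟨n.2, (coe_mem_normalizer hO hS hK P hP n).1 hn⟩
    rw [mem_centralizer_singleton_iff] at h1 ⊢
    apply Subtype.ext
    show (n : X) * k = k * n
    have h2 : (n : X) * (k * c) = k * n * c := by
      rw [h1, mul_assoc, ← hcc, ← mul_assoc]
    rw [← mul_assoc] at h2
    exact mul_right_cancel h2

theorem relIndex_component (P : Sylow 2 K) (hP : (P : Subgroup K) = (S : Subgroup X).subgroupOf K) :
    (centralizer ((P : Subgroup K) : Set K)).relIndex (normalizer ((P : Subgroup K) : Set K)) = e := by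
  have h1 : normalizer ((P : Subgroup K) : Set K) =
      (normalizer ((S : Subgroup X) : Set X) ⊓ K).subgroupOf K := by
    ext k
    rw [coe_mem_normalizer hO hS hK P hP, mem_subgroupOf, mem_inf]
    exact ⟨fun h => ⟨h, k.2⟩, fun h => h.1⟩
  have h2 : centralizer ((P : Subgroup K) : Set K) =
      (centralizer ((S : Subgroup X) : Set X)).subgroupOf K := by
    ext k
    rw [coe_mem_centralizer hO hS hK P hP, mem_subgroupOf]
  rw [h1, h2, relIndex_subgroupOf inf_le_right, ← he]
  exact relIndex_inf_eq (centralizer_le_normalizer _) inferInstance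
    (normalizer_le hO hS he hpe hK)

end

end Cfsg.Agent.H595.AbTwo
end

-- part: H595/AbTwoSimple
section
/-!
# The principal `2`-block of the simple groups with abelian Sylow `2`-subgroups and prime inertial index
-/

set_option autoImplicit false
set_option linter.unusedSectionVars false

namespace Cfsg.Agent.H595.AbTwo

open Subgroup Cfsg
open Cfsg.Agent.Walter
open Cfsg.Agent.Walter.Types

universe u

variable {M : Ideal AlgInt}

/-- every element of a subgroup that is a two group has order a power of two -/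
theorem exists_pow {K : Type*} [Group K] (P : Sylow 2 K) {u : K} (hu : u ∈ (P : Subgroup K)) :
    ∃ k : ℕ, u ^ 2 ^ k = 1 := by
  obtain ⟨k, hk⟩ := P.2 ⟨u, hu⟩
  exact ⟨k, congrArg Subtype.val hk⟩

section sl

variable {F : Type u} [Field F] [Fintype F] [CharP F 2]

theorem two_dvd_card_sl : 2 ∣ Nat.card (Matrix.SpecialLinearGroup (Fin 2) F) := by
  obtain ⟨f⟩ := WeakTI.PslTwo.nonempty_equiv (F := F)
  rw [Nat.card_congr f.toEquiv, Classification.PSLTwoEvenSylow.card_psl]
  obtain ⟨n, -, hn⟩ := FiniteField.card F 2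
  exact Dvd.dvd.mul_right (by rw [hn]; exact dvd_pow_self 2 n.ne_zero) _

theorem factorization_card_sl : (Nat.card (Matrix.SpecialLinearGroup (Fin 2) F)).factorization 2 =
    (Fintype.card F).factorization 2 := by
  obtain ⟨f⟩ := WeakTI.PslTwo.nonempty_equiv (F := F)
  rw [Nat.card_congr f.toEquiv, Classification.PSLTwoEvenSylow.card_psl]
  obtain ⟨n, -, hn⟩ := FiniteField.card F 2
  have h2 : 2 ∣ Fintype.card F := by rw [hn]; exact dvd_pow_self 2 n.ne_zero
  have h3 : 2 ≤ Fintype.card F := Fintype.one_lt_card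
  have h4 : 4 ≤ Fintype.card F ^ 2 := by nlinarith
  rw [Nat.factorization_mul (by omega) (by omega), Finsupp.add_apply]
  have h5 : (Fintype.card F ^ 2 - 1).factorization 2 = 0 := by
    apply Nat.factorization_eq_zero_of_not_dvd
    intro h
    have h6 : 2 ∣ Fintype.card F ^ 2 := dvd_pow h2 two_ne_zero
    omega
  rw [h5, add_zero]

theorem mem_principal_iff (hM : IsPModular 2 M)
    (χ : IrrCharacter (Matrix.SpecialLinearGroup (Fin 2) F)) :
    χ ∈ principalBlock M (Matrix.SpecialLinearGroup (Fin 2) F) ↔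
      ¬ (χ : Matrix.SpecialLinearGroup (Fin 2) F → ℂ) 1 = (Fintype.card F : ℂ) := by
  classical
  have : Fact (Nat.Prime 2) := ⟨Nat.prime_two⟩
  have hMp : M.IsPrime := hM.2.1.isPrime
  obtain ⟨f⟩ := WeakTI.PslTwo.nonempty_equiv (F := F)
  obtain ⟨n, -, hn⟩ := FiniteField.card F 2
  have h2 : 2 ∣ Fintype.card F := by rw [hn]; exact dvd_pow_self 2 n.ne_zero
  have h2q : 2 ≤ Fintype.card F := Fintype.one_lt_card
  constructor
  · intro h hd
    have h1 := S0969.result 2 M hM (⊥ : Subgroup (Matrix.SpecialLinearGroup (Fin 2) F))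
      IsPGroup.of_bot bot_le χ (by
        rw [index_bot, factorization_card_sl, Blocks.Basic.charDegree_of_eq hd])
    have h3 : blockOf M (χ : Matrix.SpecialLinearGroup (Fin 2) F → ℂ) =
        principalBlock M (Matrix.SpecialLinearGroup (Fin 2) F) :=
      (Blocks.Basic.blockOf_eq_of_sameBlock h).symm
    rw [h3, S4652.result 2 M hM] at h1
    obtain ⟨⟨S, hS⟩, -⟩ := h1
    have h4 := S.not_dvd_index
    rw [hS, index_bot] at h4
    exact h4 two_dvd_card_sl
  · intro hd
    obtain ⟨P⟩ : Nonempty (Sylow 2 (Matrix.SpecialLinearGroup (Fin 2) F)) := inferInstance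
    refine H700.PRatExt.mem_principalBlock_of_pregular hM P.2 χ ?_ ?_
    · rcases (S2300.result (F := F)).1 _ χ.2 with h | h | h | h
      · rw [Blocks.Basic.charDegree_of_eq (n := 1) (by rw [h, Nat.cast_one])]
        norm_num
      · rw [Blocks.Basic.charDegree_of_eq (n := Fintype.card F - 1) (by
          rw [h, Nat.cast_sub (by omega), Nat.cast_one])]
        omega
      · exact absurd h hd
      · rw [Blocks.Basic.charDegree_of_eq (n := Fintype.card F + 1) (by
          rw [h, Nat.cast_add, Nat.cast_one])]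
        omega
    · intro x hx hxo
      have hPne : (P : Subgroup (Matrix.SpecialLinearGroup (Fin 2) F)) ≠ ⊥ := by
        intro h
        have h4 := P.not_dvd_index
        rw [h, index_bot] at h4
        exact h4 two_dvd_card_sl
      obtain ⟨u, huP, hu1⟩ := (bot_or_exists_ne_one
        (P : Subgroup (Matrix.SpecialLinearGroup (Fin 2) F))).resolve_left hPne
      obtain ⟨k, hk⟩ := exists_pow P huP
      have huu := WeakTI.PslTwo.mul_self f hk
      have hxx := WeakTI.PslTwo.cent f huu hu1 (mem_centralizer_iff.1 hx u huP)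
      have h5 : orderOf x ∣ 2 := orderOf_dvd_of_pow_eq_one (by rw [pow_two, hxx])
      have h6 : orderOf x = 1 := by
        rcases (Nat.dvd_prime Nat.prime_two).1 h5 with h6 | h6
        · exact h6
        · exact absurd (by rw [h6]) hxo
      rw [orderOf_eq_one_iff.1 h6, sub_self]
      exact Blocks.Local.memLocalIdeal_zero

theorem card_principal_sl (hM : IsPModular 2 M) (h4 : 4 ≤ Fintype.card F) :
    Nat.card (principalBlock M (Matrix.SpecialLinearGroup (Fin 2) F)) = Fintype.card F := by
  classical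
  have hfin : Finite (IrrCharacter (Matrix.SpecialLinearGroup (Fin 2) F)) :=
    Characters.Core.finite_irr
  have h1 := ((S2300.result (F := F)).2 h4).2.1
  have h2 := S2331.result (F := F)
  rw [← Characters.Core.card_irr] at h2
  set Z : Set (IrrCharacter (Matrix.SpecialLinearGroup (Fin 2) F)) :=
    {χ | (χ : Matrix.SpecialLinearGroup (Fin 2) F → ℂ) 1 = (Fintype.card F : ℂ)} with hZ
  have h3 : principalBlock M (Matrix.SpecialLinearGroup (Fin 2) F) = Zᶜ := by
    ext χ
    rw [mem_principal_iff hM χ]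
    rfl
  have h5 : Z.ncard = 1 := by
    rw [← h1]; rfl
  have h6 := Set.ncard_add_ncard_compl Z
  rw [h3, Nat.card_coe_set_eq]
  omega

end sl

section simple

variable {K : Type*} [Group K] [Finite K] {e : ℕ}

theorem counting (hM : IsPModular 2 M) (hK : IsSimpleGroup K)
    (hKc : ¬ IsMulCommutative K) (P : Sylow 2 K)
    (hP : ∀ a ∈ (P : Subgroup K), ∀ b ∈ (P : Subgroup K), a * b = b * a)
    (he : (centralizer ((P : Subgroup K) : Set K)).relIndex
      (normalizer ((P : Subgroup K) : Set K)) = e) (hpe : e.Prime) :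
    e * Nat.card (principalBlock M K) =
      e * blockRank 2 (principalBlock M K) + (Nat.card (P : Subgroup K) - 1) := by
  have : Fact (Nat.Prime 2) := ⟨Nat.prime_two⟩
  have h := AbCount.card_principal hM P hP he hpe ⊥ bot_le bot_le (fun u hu hu1 =>
    not_centralized_simple hK hKc P hP hu (fun h => hu1 (mem_bot.2 h)))
  rwa [Subgroup.card_bot, one_mul] at h

theorem simple_even (hM : IsPModular 2 M) (hK : IsSimpleGroup K)
    (hKc : ¬ IsMulCommutative K) (P : Sylow 2 K)
    (hP : ∀ a ∈ (P : Subgroup K), ∀ b ∈ (P : Subgroup K), a * b = b * a)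
    (he : (centralizer ((P : Subgroup K) : Set K)).relIndex
      (normalizer ((P : Subgroup K) : Set K)) = e) (hpe : e.Prime) (h : IsEvenType K) :
    blockRank 2 (principalBlock M K) = e ∧ Nat.card (P : Subgroup K) = e + 1 := by
  have : Fact (Nat.Prime 2) := ⟨Nat.prime_two⟩
  obtain ⟨F, i1, i2, n, hn, hF, ⟨g⟩⟩ := h
  have hcp : CharP F 2 := by
    obtain ⟨p, hp⟩ := CharP.exists F
    have hpp : p.Prime := CharP.char_is_prime F p
    have h1 : p ∣ Fintype.card F := by
      rw [← CharP.cast_eq_zero_iff F p]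
      exact FiniteField.cast_card_eq_zero F
    rw [hF] at h1
    have h2 := (Nat.prime_dvd_prime_iff_eq hpp Nat.prime_two).1 (hpp.dvd_of_dvd_pow h1)
    rwa [h2] at hp
  have hPc := TypeSylow.card_sylow_even hF g P
  have h4 : 4 ≤ Fintype.card F := by
    rw [hF]
    calc 4 = 2 ^ 2 := by norm_num
      _ ≤ 2 ^ n := Nat.pow_le_pow_right (by norm_num) hn
  rw [← hF] at hPc
  -- the inertial index
  have hPne : (P : Subgroup K) ≠ ⊥ := by
    intro h
    rw [h, Subgroup.card_bot] at hPc
    omega
  obtain ⟨u, huP, hu1⟩ := (P : Subgroup K).bot_or_exists_ne_one.resolve_left hPne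
  have hsq : ∀ v ∈ (P : Subgroup K), v * v = 1 := by
    intro v hv
    obtain ⟨k, hk⟩ := exists_pow P hv
    exact WeakTI.PslTwo.mul_self g hk
  have h5 := AbCount.ncard_conj P hP huP he hpe (not_centralized_simple hK hKc P hP huP hu1)
  have h6 : {v : K | v ∈ (P : Subgroup K) ∧ IsConj v u} = ((P : Subgroup K) : Set K) \ {1} := by
    ext v
    constructor
    · rintro ⟨h7, h8⟩
      refine ⟨h7, fun h9 => hu1 ?_⟩
      rw [Set.mem_singleton_iff] at h9
      rw [h9] at h8
      exact isConj_one_right.1 h8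
    · rintro ⟨h7, h8⟩
      refine ⟨h7, isConj_iff.2 ?_⟩
      exact WeakTI.PslTwo.exists_conj g (hsq v h7) h8 (hsq u huP) hu1
  rw [h6, Set.ncard_sdiff_singleton_of_mem (one_mem (P : Subgroup K)), ← Nat.card_coe_set_eq] at h5
  have h7 : Nat.card (P : Subgroup K) = e + 1 := by
    have h8 : 0 < Nat.card (P : Subgroup K) := Nat.card_pos
    have h9 : Nat.card (P : Subgroup K) - 1 = e := h5
    omega
  refine ⟨?_, h7⟩
  have h8 := counting hM hK hKc P hP he hpe
  obtain ⟨f⟩ := WeakTI.PslTwo.nonempty_equiv (F := F)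
  rw [AbCount.card_equiv (g.trans f.symm), card_principal_sl hM h4, ← hPc, h7] at h8
  have h9 : e + 1 - 1 = e * 1 := by omega
  rw [h9, ← mul_add] at h8
  have h10 := Nat.eq_of_mul_eq_mul_left hpe.pos h8
  omega

theorem simple_odd (hM : IsPModular 2 M) (hK : IsSimpleGroup K)
    (hKc : ¬ IsMulCommutative K) (P : Sylow 2 K)
    (hP : ∀ a ∈ (P : Subgroup K), ∀ b ∈ (P : Subgroup K), a * b = b * a)
    (he : (centralizer ((P : Subgroup K) : Set K)).relIndex
      (normalizer ((P : Subgroup K) : Set K)) = e) (hpe : e.Prime) (h : IsOddType K) :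
    blockRank 2 (principalBlock M K) = e ∧ Nat.card (P : Subgroup K) = e + 1 := by
  have : Fact (Nat.Prime 2) := ⟨Nat.prime_two⟩
  obtain ⟨F, i1, i2, hF, h5, ⟨g⟩⟩ := h
  have hPc := TypeSylow.card_sylow_odd hF g P
  have hN : ¬ normalizer ((P : Subgroup K) : Set K) ≤ centralizer ((P : Subgroup K) : Set K) := by
    intro h
    rw [← relIndex_eq_one, he] at h
    exact hpe.ne_one h
  have h2' : 2 ∣ Nat.card (P : Subgroup K) := ⟨2, by rw [hPc]⟩
  have h2 : 2 ∣ Nat.card K := h2'.trans (P : Subgroup K).card_subgroup_dvd_card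
  have hkl : IsKleinFour (P : Subgroup K) :=
    SmallSimple.KleinFourAut.isKleinFour_of_not_isCyclic hPc fun hc =>
      hN (hc.normalizer_le_centralizer ((Nat.minFac_eq_two_iff _).2 h2))
  have h1 := S4512.result M hM P hPc (fun x => IsKleinFour.mul_self x)
    (H608.Klein.one_class P hkl hN)
  have h8 := counting hM hK hKc P hP he hpe
  rw [h1, hPc] at h8
  have h9 : e ∣ 3 := by
    rw [← Nat.dvd_add_right (Dvd.intro 3 rfl : e ∣ e * 3), ← h8]
    exact Dvd.intro _ rfl
  have h10 : e = 3 := (Nat.prime_dvd_prime_iff_eq hpe Nat.prime_three).1 h9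
  rw [h1, hPc, h10]
  exact ⟨rfl, rfl⟩

end simple

theorem isSolvable_of_hnc
    (hodd : ∀ (Y : Type u) [Group Y] [Finite Y], Odd (Nat.card Y) → Group.IsSolvable Y)
    {C : Type u} [Group C] [Finite C] (h : HasNormalPComplement 2 C) : Group.IsSolvable C := by
  have : Fact (Nat.Prime 2) := ⟨Nat.prime_two⟩
  obtain ⟨Q, N, hN, hc⟩ := h
  have h1 : N.index = Nat.card (Q : Subgroup C) := hc.symm.index_eq_card
  obtain ⟨k, hk⟩ := IsPGroup.iff_card.1 Q.2
  have h2 : Group.IsSolvable (C ⧸ N) := by
    have h3 : IsPGroup 2 (C ⧸ N) := IsPGroup.of_card (n := k) (h1.trans hk)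
    have := h3.isNilpotent
    infer_instance
  have h3 : Group.IsSolvable N := by
    apply hodd
    have h4 := hc.index_eq_card
    rw [← Nat.not_even_iff_odd, even_iff_two_dvd, ← h4]
    exact Q.not_dvd_index
  exact Group.isSolvable_of_ker_le_range N.subtype (QuotientGroup.mk' N) (by simp)

theorem simple_JR (hodd : ∀ (Y : Type u) [Group Y] [Finite Y], Odd (Nat.card Y) → Group.IsSolvable Y)
    {K : Type u} [Group K] [Finite K] {e : ℕ} (hK : IsSimpleGroup K)
    (hKc : ¬ IsMulCommutative K) (P : Sylow 2 K)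
    (hP : ∀ a ∈ (P : Subgroup K), ∀ b ∈ (P : Subgroup K), a * b = b * a)
    (he : (centralizer ((P : Subgroup K) : Set K)).relIndex
      (normalizer ((P : Subgroup K) : Set K)) = e) (hpe : e.Prime) : ¬ IsJR K := by
  intro h
  have : Fact (Nat.Prime 2) := ⟨Nat.prime_two⟩
  obtain ⟨h8, hsq⟩ := TypeSylow.card_sylow_JR h P
  have hPne : (P : Subgroup K) ≠ ⊥ := by
    intro h
    rw [h, Subgroup.card_bot] at h8
    omega
  obtain ⟨t, htP, ht1⟩ := (bot_or_exists_ne_one (P : Subgroup K)).resolve_left hPne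
  have ht2 : orderOf t = 2 := orderOf_eq_prime (by rw [pow_two, hsq t htP]) ht1
  have h1 := isSolvable_of_hnc hodd
    (AbCount.hnc_centralizer P hP htP he hpe (not_centralized_simple hK hKc P hP htP ht1))
  obtain ⟨-, F, i1, i2, -, h5, hc⟩ := h
  obtain ⟨g⟩ := hc t ht2
  have h2 : Group.IsSolvable (Multiplicative (ZMod 2) × Matrix.ProjectiveSpecialLinearGroup (Fin 2) F) :=
    Group.isSolvable_of_surjective (f := g.toMonoidHom) g.surjective
  have h3 : Group.IsSolvable (Matrix.ProjectiveSpecialLinearGroup (Fin 2) F) :=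
    Group.isSolvable_of_surjective
      (f := MonoidHom.snd (Multiplicative (ZMod 2)) (Matrix.ProjectiveSpecialLinearGroup (Fin 2) F))
      Prod.snd_surjective
  exact ClassicalGeometry.PSL2Solvable.not_isSolvable_psl F (by omega) h3

end Cfsg.Agent.H595.AbTwo
end
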