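import Cfsg.Agent.OddOrderCharacters.PF9.CliffGen
import Cfsg.Agent.H681.SimpleChar
import Cfsg.Agent.H685.AcdNab
import Cfsg.Agent.CharactersDeep.CliffordSum
import Cfsg.Agent.CharactersDeep.ExtUnique
import Cfsg.Agent.Prune
set_option linter.all false

section
prune_inst 0x7f00000000000000000000000000000000000000000000000000000000000000000000000000000000000000000000000000000000000000000000000000000000000000000000000000000000000000003ffffff7ffffffffffffffffffffbeffbdfbfeffff

-- part: H595/AvgTwoK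
section
prune_inst 0x4010000
set_option linter.all false
open scoped Cfsg.Agent.FastGrp

/-!
# Irreducible characters of degree two of a perfect group (helper595, for S4831)

For `x` irreducible of degree two of a perfect group `K`: `x` is real, `x (g²) = x(g)² - 2`,
`x² - 1` and `x³ - 2 x` are irreducible; for `x ≠ y` of degree two `x y` is irreducible.
-/

set_option autoImplicit false
set_option linter.unusedSectionVars false

namespace Cfsg.Agent.H595.AvgTwo

open Cfsg
open scoped ComplexConjugate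
open Cfsg.Agent.Characters.Core
open Cfsg.Agent.OddOrderCharacters.Clifford (isCharacter_sub_irr)

universe u

/-- The average of a function. -/
noncomputable def av {K : Type u} [Fintype K] (f : K → ℂ) : ℂ := (Nat.card K : ℂ)⁻¹ * ∑ g, f g

section av

variable {K : Type u} [Group K] [Fintype K]

theorem av_add (f g : K → ℂ) : av (f + g) = av f + av g := by
  unfold av
  rw [← mul_add, ← Finset.sum_add_distrib]
  rfl

theorem av_sub (f g : K → ℂ) : av (f - g) = av f - av g := by
  unfold av
  rw [← mul_sub, ← Finset.sum_sub_distrib]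
  rfl

theorem av_smul (c : ℂ) (f : K → ℂ) : av (c • f) = c * av f := by
  unfold av
  have h : ∑ g, (c • f) g = c * ∑ g, f g := by
    rw [Finset.mul_sum]
    rfl
  rw [h]
  ring

theorem av_one : av (1 : K → ℂ) = 1 := by
  unfold av
  have h : ∑ g : K, (1 : K → ℂ) g = (Nat.card K : ℂ) := by
    simp [Nat.card_eq_fintype_card]
  rw [h, inv_mul_cancel₀ card_ne_zero_complex]

/-- Inner products with real functions are averages. -/
theorem inner_eq_av {f y : K → ℂ} (hy : ∀ g, conj (y g) = y g) : classInner f y = av (f * y) := by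
  rw [classInner_def]
  unfold av
  congr 1
  refine Finset.sum_congr rfl fun g _ => ?_
  rw [hy, Pi.mul_apply]

end av

section K

variable {K : Type u} [Group K] [Fintype K]

theorem eq_zero_of_apply_one {ψ : K → ℂ} (hψ : IsCharacter K ψ) (h : ψ 1 = 0) : ψ = 0 := by
  funext y
  have h1 := Cfsg.Agent.OddOrderCharacters.PF9.CliffGen.norm_le_re hψ y
  rw [h, Complex.zero_re] at h1
  exact norm_le_zero_iff.1 h1

variable (hK : ∀ f : K →* ℂˣ, f = 1)

include hK

theorem eq_one_of_irr_degree_one {η : K → ℂ} (hη : IsIrrCharacter K η) (h1 : η 1 = 1) :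
    η = 1 := by
  obtain ⟨f, hf⟩ := Cfsg.Agent.Characters.Linear.exists_hom_of_isIrrCharacter hη h1
  rw [hf, hK f]
  rfl

/-- Split off an irreducible constituent of degree at least two. -/
theorem split {ψ : K → ℂ} (hψ : IsCharacter K ψ) {n : ℕ} (hn : ψ 1 = n) (hn0 : n ≠ 0)
    (h1 : classInner ψ 1 = 0) :
    ∃ (η : K → ℂ) (a b : ℕ), IsIrrCharacter K η ∧ 2 ≤ a ∧ a + b = n ∧ η 1 = a ∧
      IsCharacter K (ψ - η) ∧ (ψ - η) 1 = b ∧ classInner (ψ - η) 1 = 0 ∧
      classInner ψ η ≠ 0 := by
  have hne : ψ ≠ 0 := by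
    rintro rfl
    apply hn0
    have : ((n : ℕ) : ℂ) = 0 := by rw [← hn]; rfl
    exact_mod_cast this
  obtain ⟨η, hη, h2⟩ := Cfsg.Agent.OddOrderCharacters.PF4Type.exists_irr_constituent hψ hne
  obtain ⟨a, ha0, ha⟩ := isIrr_apply_one hη
  have h3 := isCharacter_sub_irr hψ hη h2
  obtain ⟨b, hb⟩ := isCharacter_apply_one h3
  have hη1 : η ≠ 1 := by
    rintro rfl
    exact h2 h1
  refine ⟨η, a, b, hη, ?_, ?_, ha, h3, hb, ?_, h2⟩
  · by_contra hcon
    have ha1 : a = 1 := by omega
    apply hη1
    exact eq_one_of_irr_degree_one hK hη (by rw [ha, ha1, Nat.cast_one])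
  · rw [Pi.sub_apply, hn, ha] at hb
    have : ((a + b : ℕ) : ℂ) = ((n : ℕ) : ℂ) := by
      push_cast
      rw [← hb]
      ring
    exact_mod_cast this
  · rw [classInner_sub_left, h1, classInner_irr_ne hη isIrr_one hη1, sub_zero]

theorem not_degree_one {ψ : K → ℂ} (hψ : IsCharacter K ψ) (hn : ψ 1 = ((1 : ℕ) : ℂ))
    (h1 : classInner ψ 1 = 0) : False := by
  obtain ⟨η, a, b, -, h2, h3, -⟩ := split hK hψ hn one_ne_zero h1
  omega

/-- A character of degree one is trivial. -/
theorem eq_one_of_degree_one {ψ : K → ℂ} (hψ : IsCharacter K ψ) (hn : ψ 1 = ((1 : ℕ) : ℂ)) :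
    ψ = 1 := by
  by_cases h1 : classInner ψ 1 = 0
  · exact (not_degree_one hK hψ hn h1).elim
  · have h3 := isCharacter_sub_irr hψ isIrr_one h1
    have h4 := eq_zero_of_apply_one h3 (by rw [Pi.sub_apply, hn]; simp)
    rwa [sub_eq_zero] at h4

theorem irr_two {ψ : K → ℂ} (hψ : IsCharacter K ψ) (hn : ψ 1 = ((2 : ℕ) : ℂ))
    (h1 : classInner ψ 1 = 0) : IsIrrCharacter K ψ := by
  obtain ⟨η, a, b, hη, h2, h3, ha, hc, hb, -, -⟩ := split hK hψ hn two_ne_zero h1
  have hb0 : b = 0 := by omega
  have h4 := eq_zero_of_apply_one hc (by rw [hb, hb0, Nat.cast_zero])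
  rw [sub_eq_zero] at h4
  rwa [h4]

theorem irr_three {ψ : K → ℂ} (hψ : IsCharacter K ψ) (hn : ψ 1 = ((3 : ℕ) : ℂ))
    (h1 : classInner ψ 1 = 0) : IsIrrCharacter K ψ := by
  obtain ⟨η, a, b, hη, h2, h3, ha, hc, hb, h5, -⟩ := split hK hψ hn three_ne_zero h1
  have hb0 : b = 0 ∨ b = 1 := by omega
  rcases hb0 with hb0 | hb0
  · have h4 := eq_zero_of_apply_one hc (by rw [hb, hb0, Nat.cast_zero])
    rw [sub_eq_zero] at h4
    rwa [h4]
  · rw [hb0] at hb
    exact (not_degree_one hK hc hb h5).elim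

theorem irr_four {ψ : K → ℂ} (hψ : IsCharacter K ψ) (hn : ψ 1 = ((4 : ℕ) : ℂ))
    (h1 : classInner ψ 1 = 0) : IsIrrCharacter K ψ ∨ ∃ η κ : K → ℂ, IsIrrCharacter K η ∧
      IsIrrCharacter K κ ∧ η 1 = 2 ∧ κ 1 = 2 ∧ ψ = η + κ := by
  obtain ⟨η, a, b, hη, h2, h3, ha, hc, hb, h5, -⟩ := split hK hψ hn four_ne_zero h1
  have hb0 : b = 0 ∨ b = 1 ∨ b = 2 := by omega
  rcases hb0 with hb0 | hb0 | hb0
  · have h4 := eq_zero_of_apply_one hc (by rw [hb, hb0, Nat.cast_zero])
    rw [sub_eq_zero] at h4
    left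
    rwa [h4]
  · rw [hb0] at hb
    exact (not_degree_one hK hc hb h5).elim
  · right
    have ha2 : a = 2 := by omega
    rw [hb0] at hb
    refine ⟨η, ψ - η, hη, irr_two hK hc hb h5, by rw [ha, ha2]; rfl, hb, by abel⟩

/-- Characters of degree two are real and have determinant one. -/
theorem two_real {x : K → ℂ} (hx : IsIrrCharacter K x) (h2 : x 1 = 2) :
    (∀ g, conj (x g) = x g) ∧ ∀ g, x (g * g) = x g ^ 2 - 2 := by
  have hinv : ∀ g, x g⁻¹ = conj (x g) := fun g => isCharacter_apply_inv (isIrr_isCharacter hx) g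
  obtain ⟨n, ρ, hρ, rfl⟩ := hx
  have hn : n = 2 := by
    rw [Representation.char_one] at h2
    have : Module.finrank ℂ (Fin n → ℂ) = 2 := by exact_mod_cast h2
    simpa using this
  subst hn
  let A : K → Matrix (Fin 2) (Fin 2) ℂ := fun g => LinearMap.toMatrix' (ρ g)
  have hA1 : ∀ g h, A (g * h) = A g * A h := by
    intro g h
    show LinearMap.toMatrix' (ρ (g * h)) = _
    rw [map_mul, Module.End.mul_eq_comp, LinearMap.toMatrix'_comp]
  have hAd : ∀ g, (A g).det = 1 := by
    intro g
    have h3 := DFunLike.congr_fun (hK (Cfsg.Agent.CharDeep.Twist.detHom ρ)) g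
    have h4 := Cfsg.Agent.CharDeep.Twist.detHom_apply ρ g
    show (LinearMap.toMatrix' (ρ g)).det = 1
    rw [LinearMap.det_toMatrix', ← h4, h3]
    rfl
  have hAt : ∀ g, ρ.character g = (A g) 0 0 + (A g) 1 1 := by
    intro g
    rw [← Matrix.trace_fin_two]
    show LinearMap.trace ℂ _ (ρ g) = Matrix.trace (LinearMap.toMatrix' (ρ g))
    rw [LinearMap.trace_eq_matrix_trace ℂ (Pi.basisFun ℂ (Fin 2))]
    rfl
  constructor
  · intro g
    rw [← hinv]
    have h1 : A g * A g⁻¹ = 1 := by
      rw [← hA1, mul_inv_cancel]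
      show LinearMap.toMatrix' (ρ 1) = 1
      rw [map_one]
      exact LinearMap.toMatrix'_one
    have h3 : A g⁻¹ = (A g).adjugate := by
      have h4 := Matrix.adjugate_mul (A g)
      rw [hAd, one_smul] at h4
      calc A g⁻¹ = ((A g).adjugate * A g) * A g⁻¹ := by rw [h4, one_mul]
        _ = (A g).adjugate * (A g * A g⁻¹) := by rw [mul_assoc]
        _ = (A g).adjugate := by rw [h1, mul_one]
    rw [hAt, hAt, h3, Matrix.adjugate_fin_two]
    simp
    ring
  · intro g
    rw [hAt, hAt, hA1]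
    have h3 := hAd g
    rw [Matrix.det_fin_two] at h3
    simp only [Matrix.mul_apply, Fin.sum_univ_two]
    linear_combination (-2 : ℂ) * h3

end K

/-- An irreducible character of degree two. -/
structure Two {K : Type u} [Group K] (x : K → ℂ) : Prop where
  irr : IsIrrCharacter K x
  deg : x 1 = 2

/-- The square minus one. -/
def rho {K : Type u} (x : K → ℂ) : K → ℂ := x * x - 1

/-- The third symmetric power. -/
def tau {K : Type u} (x : K → ℂ) : K → ℂ := x * rho x - x

/-- The average over the squares. -/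
noncomputable def fs {K : Type u} [Group K] [Fintype K] (f : K → ℂ) : ℂ := av fun g => f (g * g)

section K2

variable {K : Type u} [Group K] [Fintype K] {x y z : K → ℂ}

theorem av_irr (hx : IsIrrCharacter K x) (hr : ∀ g, conj (x g) = x g) : av (x * x) = 1 := by
  rw [← inner_eq_av hr, classInner_irr_self hx]

theorem av_irr_ne (hx : IsIrrCharacter K x) (hy : IsIrrCharacter K y)
    (hr : ∀ g, conj (y g) = y g) (h : x ≠ y) : av (x * y) = 0 := by
  rw [← inner_eq_av hr, classInner_irr_ne hx hy h]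

theorem av_irr_one (hx : IsIrrCharacter K x) (h : x ≠ 1) : av x = 0 := by
  have h1 := av_irr_ne hx isIrr_one (fun g => by simp) h
  rwa [mul_one] at h1

theorem ne_one_of_deg {n : ℕ} (hn : x 1 = n) (h : n ≠ 1) : x ≠ 1 := by
  rintro rfl
  apply h
  have : ((n : ℕ) : ℂ) = 1 := by rw [← hn]; rfl
  exact_mod_cast this

theorem ne_of_deg {m n : ℕ} (hm : x 1 = m) (hn : y 1 = n) (h : m ≠ n) : x ≠ y := by
  rintro rfl
  apply h
  rw [hm] at hn
  exact_mod_cast hn

theorem Two.deg' (hx : Two x) : x 1 = ((2 : ℕ) : ℂ) := by rw [hx.deg]; rfl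

theorem Two.ne_one (hx : Two x) : x ≠ 1 := ne_one_of_deg hx.deg' (by norm_num)

variable (hK : ∀ f : K →* ℂˣ, f = 1)

include hK

theorem Two.real (hx : Two x) : ∀ g, conj (x g) = x g := (two_real hK hx.irr hx.deg).1

theorem Two.sq (hx : Two x) : ∀ g, x (g * g) = x g ^ 2 - 2 := (two_real hK hx.irr hx.deg).2

theorem rho_real (hx : Two x) : ∀ g, conj (rho x g) = rho x g := by
  intro g
  show conj (x g * x g - 1) = x g * x g - 1
  rw [map_sub, map_mul, hx.real hK, map_one]

theorem rho_deg (hx : Two x) : rho x 1 = ((3 : ℕ) : ℂ) := by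
  show x 1 * x 1 - 1 = _
  rw [hx.deg]
  push_cast
  ring

theorem rho_irr (hx : Two x) : IsIrrCharacter K (rho x) := by
  have hc := isCharacter_mul (isIrr_isCharacter hx.irr) (isIrr_isCharacter hx.irr)
  have h1 : classInner (x * x) 1 = 1 := by
    rw [inner_eq_av (fun g => by simp), mul_one, av_irr hx.irr (hx.real hK)]
  have h2 := isCharacter_sub_irr hc isIrr_one (by rw [h1]; exact one_ne_zero)
  refine irr_three hK h2 (rho_deg hK hx) ?_
  unfold rho
  rw [classInner_sub_left, h1, classInner_irr_self isIrr_one, sub_self]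

theorem rho_ne_one (hx : Two x) : rho x ≠ 1 := ne_one_of_deg (rho_deg hK hx) (by norm_num)

theorem rho_ne_two (hx : Two x) (hy : Two y) : rho x ≠ y :=
  ne_of_deg (rho_deg hK hx) hy.deg' (by norm_num)

theorem inner_mul_rho (hx : Two x) : classInner (x * rho x) x = 1 := by
  rw [inner_eq_av (hx.real hK)]
  have h1 : x * rho x * x = rho x + rho x * rho x := by
    unfold rho
    ring
  rw [h1, av_add, av_irr_one (rho_irr hK hx) (rho_ne_one hK hx),
    av_irr (rho_irr hK hx) (rho_real hK hx), zero_add]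

theorem tau_char (hx : Two x) : IsCharacter K (tau x) :=
  isCharacter_sub_irr (isCharacter_mul (isIrr_isCharacter hx.irr)
    (isIrr_isCharacter (rho_irr hK hx))) hx.irr (by
      rw [inner_mul_rho hK hx]
      exact one_ne_zero)

theorem tau_deg (hx : Two x) : tau x 1 = ((4 : ℕ) : ℂ) := by
  show x 1 * rho x 1 - x 1 = _
  rw [hx.deg, rho_deg hK hx]
  push_cast
  ring

theorem tau_real (hx : Two x) : ∀ g, conj (tau x g) = tau x g := by
  intro g
  show conj (x g * rho x g - x g) = x g * rho x g - x g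
  rw [map_sub, map_mul, hx.real hK, rho_real hK hx]

theorem inner_tau_self (hx : Two x) : classInner (tau x) x = 0 := by
  unfold tau
  rw [classInner_sub_left, inner_mul_rho hK hx, classInner_irr_self hx.irr, sub_self]

theorem tau_irr (hx : Two x) : IsIrrCharacter K (tau x) := by
  rcases irr_four hK (tau_char hK hx) (tau_deg hK hx) (by
    unfold tau
    rw [classInner_sub_left, inner_eq_av (fun g => by simp), mul_one,
      classInner_irr_ne hx.irr isIrr_one hx.ne_one, sub_zero]
    rw [mul_comm]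
    exact av_irr_ne (rho_irr hK hx) hx.irr (hx.real hK) (rho_ne_two hK hx hx)) with h | h
  · exact h
  · exfalso
    obtain ⟨η, κ, hη, hκ, hη2, hκ2, hsum⟩ := h
    have hη' : Two η := ⟨hη, hη2⟩
    have h0 := inner_tau_self hK hx
    have hnn : ∀ a : K → ℂ, IsIrrCharacter K a → classInner κ a = 0 ∨ classInner κ a = 1 := by
      intro a ha
      by_cases h : κ = a
      · right; rw [h, classInner_irr_self ha]
      · left; exact classInner_irr_ne hκ ha h
    have hηx : η ≠ x := by
      rintro rfl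
      rw [hsum, classInner_add_left, classInner_irr_self hη] at h0
      rcases hnn η hη with h | h <;> rw [h] at h0 <;> norm_num at h0
    have h1 : classInner (tau x) η ≠ 0 := by
      rw [hsum, classInner_add_left, classInner_irr_self hη]
      rcases hnn η hη with h | h <;> rw [h] <;> norm_num
    have h2 : classInner (x * η) (rho x) = classInner (tau x) η := by
      unfold tau
      rw [classInner_sub_left, classInner_irr_ne hx.irr hη (Ne.symm hηx), sub_zero,
        inner_eq_av (rho_real hK hx), inner_eq_av (hη'.real hK)]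
      congr 1
      ring
    have h3 := isCharacter_sub_irr (isCharacter_mul (isIrr_isCharacter hx.irr)
      (isIrr_isCharacter hη)) (rho_irr hK hx) (by rw [h2]; exact h1)
    have h4 := eq_one_of_degree_one hK h3 (by
      show x 1 * η 1 - rho x 1 = _
      rw [hx.deg, hη2, rho_deg hK hx]
      push_cast
      ring)
    have h5 : x * η = rho x + 1 := by
      rw [← h4]
      ring
    have h6 : av (x * η) = 0 := av_irr_ne hx.irr hη (hη'.real hK) (Ne.symm hηx)
    rw [h5, av_add, av_irr_one (rho_irr hK hx) (rho_ne_one hK hx), av_one] at h6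
    norm_num at h6

theorem av_two (hx : Two x) : av (x ^ 2) = 1 := by
  rw [pow_two]
  exact av_irr hx.irr (hx.real hK)

theorem av_four (hx : Two x) : av (x ^ 4) = 2 := by
  have h1 : x ^ 4 = 1 + (2 : ℂ) • rho x + rho x * rho x := by
    funext g
    simp only [rho, Pi.pow_apply, Pi.add_apply, Pi.smul_apply, Pi.sub_apply, Pi.mul_apply,
      Pi.one_apply, smul_eq_mul]
    ring
  rw [h1, av_add, av_add, av_smul, av_one, av_irr_one (rho_irr hK hx) (rho_ne_one hK hx),
    av_irr (rho_irr hK hx) (rho_real hK hx)]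
  norm_num

theorem av_six (hx : Two x) : av (x ^ 6) = 5 := by
  have h1 : x ^ 6 = tau x * tau x + (4 : ℂ) • (tau x * x) + (4 : ℂ) • (x * x) := by
    funext g
    simp only [tau, rho, Pi.pow_apply, Pi.add_apply, Pi.smul_apply, Pi.sub_apply, Pi.mul_apply,
      Pi.one_apply, smul_eq_mul]
    ring
  rw [h1, av_add, av_add, av_smul, av_smul, av_irr (tau_irr hK hx) (tau_real hK hx),
    av_irr hx.irr (hx.real hK), ← inner_eq_av (hx.real hK), inner_tau_self hK hx]
  norm_num

theorem fs_two (hx : Two x) : fs x = -1 := by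
  have h1 : (fun g => x (g * g)) = x ^ 2 - (2 : ℂ) • (1 : K → ℂ) := by
    funext g
    rw [hx.sq hK]
    simp
  unfold fs
  rw [h1, av_sub, av_smul, av_one, av_two hK hx]
  norm_num

theorem fs_tau (hx : Two x) : fs (tau x) = -1 := by
  have h1 : (fun g => tau x (g * g)) = x ^ 6 - (6 : ℂ) • x ^ 4 + (10 : ℂ) • x ^ 2 -
      (4 : ℂ) • (1 : K → ℂ) := by
    funext g
    simp only [tau, rho, Pi.pow_apply, Pi.add_apply, Pi.smul_apply, Pi.sub_apply, Pi.mul_apply,
      Pi.one_apply, smul_eq_mul, hx.sq hK]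
    ring
  unfold fs
  rw [h1, av_sub, av_add, av_sub, av_smul, av_smul, av_smul, av_one, av_two hK hx, av_four hK hx,
    av_six hK hx]
  norm_num

theorem prod_real (hx : Two x) (hy : Two y) : ∀ g, conj ((x * y) g) = (x * y) g := by
  intro g
  rw [Pi.mul_apply, map_mul, hx.real hK, hy.real hK]

theorem fs_prod (hx : Two x) (hy : Two y) : fs (x * y) = classInner (x * y) (x * y) := by
  have h1 : (fun g => (x * y) (g * g)) = (x * y) * (x * y) - (2 : ℂ) • x ^ 2 - (2 : ℂ) • y ^ 2 +
      (4 : ℂ) • (1 : K → ℂ) := by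
    funext g
    simp only [Pi.pow_apply, Pi.add_apply, Pi.smul_apply, Pi.sub_apply, Pi.mul_apply,
      Pi.one_apply, smul_eq_mul, hx.sq hK, hy.sq hK]
    ring
  unfold fs
  rw [h1, av_add, av_sub, av_sub, av_smul, av_smul, av_smul, av_one, av_two hK hx, av_two hK hy,
    inner_eq_av (prod_real hK hx hy)]
  ring

/-- The product of two different characters of degree two is irreducible. -/
theorem prod_irr (hx : Two x) (hy : Two y) (hne : x ≠ y) : IsIrrCharacter K (x * y) := by
  have hc := isCharacter_mul (isIrr_isCharacter hx.irr) (isIrr_isCharacter hy.irr)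
  rcases irr_four hK hc (by
    rw [Pi.mul_apply, hx.deg, hy.deg]
    push_cast
    norm_num) (by
    rw [inner_eq_av (fun g => by simp), mul_one]
    exact av_irr_ne hx.irr hy.irr (hy.real hK) hne) with h | h
  · exact h
  · exfalso
    obtain ⟨η, κ, hη, hκ, hη2, hκ2, hsum⟩ := h
    have h1 : fs (x * y) = -2 := by
      rw [hsum]
      have h2 : fs (η + κ) = fs η + fs κ := by
        unfold fs
        rw [← av_add]
        rfl
      rw [h2, fs_two hK ⟨hη, hη2⟩, fs_two hK ⟨hκ, hκ2⟩]
      norm_num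
    obtain ⟨k, hk⟩ := classInner_isNat hc hc
    rw [fs_prod hK hx hy, hk] at h1
    have h2 : ((k + 2 : ℕ) : ℂ) = 0 := by
      push_cast
      rw [h1]
      norm_num
    have h3 : k + 2 = 0 := by exact_mod_cast h2
    omega

theorem prod_deg (hx : Two x) (hy : Two y) : (x * y) 1 = ((4 : ℕ) : ℂ) := by
  rw [Pi.mul_apply, hx.deg, hy.deg]
  push_cast
  norm_num

theorem prod_ne (hx : Two x) (hy : Two y) (hz : Two z) (hxy : x ≠ y) (hyz : y ≠ z) :
    x * y ≠ x * z := by
  intro h
  have h1 : classInner (x * y) (x * y) = 1 := classInner_irr_self (prod_irr hK hx hy hxy)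
  have h2 : classInner (x * y) (x * z) = av (y * z + rho x * (y * z)) := by
    rw [inner_eq_av (prod_real hK hx hz)]
    congr 1
    unfold rho
    ring
  have hyzi := prod_irr hK hy hz hyz
  rw [← h, h1, av_add, av_irr_ne hy.irr hz.irr (hz.real hK) hyz,
    av_irr_ne (rho_irr hK hx) hyzi (prod_real hK hy hz)
      (ne_of_deg (rho_deg hK hx) (prod_deg hK hy hz) (by norm_num))] at h2
  norm_num at h2

theorem tau_ne_prod (hx : Two x) (hy : Two y) (hz : Two z) (hyz : y ≠ z) : tau x ≠ y * z := by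
  intro h
  have h1 := fs_tau hK hx
  rw [h, fs_prod hK hy hz, classInner_irr_self (prod_irr hK hy hz hyz)] at h1
  norm_num at h1

end K2

end Cfsg.Agent.H595.AvgTwo

private theorem dce_4b1a61c5d5c3 : _root_.True := by
  try have : _root_.True := by simp only [_root_.Cfsg.Agent.H595.AvgTwo.tau.eq_1]
  try have : _root_.True := by simp only [_root_.Cfsg.Agent.H595.AvgTwo.rho.eq_1]
  exact _root_.True.intro
end

-- part: H595/AvgTwoG
section
prune_inst 0x80000000000000000000000000000000000
set_option linter.all false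
open scoped Cfsg.Agent.FastGrp

-- part: H595/AvgTwoStar
section
/-!
# A lower bound for the degrees over an irreducible character of a normal subgroup
(helper595, for S4831)

`K` normal in `G`, `θ ∈ Irr(K)`, `χ₀ ∈ Irr(G)` with `[χ₀_K, θ] = e ≠ 0`:
`θ(1) ∑_{β ∈ Irr(G/K)} β(1) ≤ e ∑_{χ ∈ Irr(G|θ)} χ(1)`.
-/

set_option autoImplicit false
set_option linter.unusedSectionVars false

namespace Cfsg.Agent.H595.AvgTwo

open Cfsg
open scoped ComplexConjugate
open Cfsg.Agent.Characters.Core
open Cfsg.Agent.OddOrderCharacters.IndRes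

universe u

/-- `K` lies in the kernel. -/
def KerP {G : Type u} [Group G] (K : Subgroup G) (β : IrrCharacter G) : Prop :=
  ∀ k ∈ K, (β : G → ℂ) k = (β : G → ℂ) 1

/-- Lying over `θ`. -/
def OverP {G : Type u} [Group G] (K : Subgroup G) [Fintype K] (θ : K → ℂ) (χ : IrrCharacter G) :
    Prop := classInner (res K (χ : G → ℂ)) θ ≠ 0

variable {G : Type u} [Group G] [Fintype G] (K : Subgroup G) [hK : K.Normal] [Fintype K]

/-- The multiplicity of the trivial character in a restriction to a normal subgroup. -/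
theorem ker_of_inner_one {χ : G → ℂ} (hχ : IsIrrCharacter G χ)
    (h : classInner (res K χ) 1 ≠ 0) : ∀ k ∈ K, χ k = χ 1 := by
  intro k hk
  have h1 := Cfsg.Agent.OddOrderCharacters.PF9.CliffGen.res_of_invariant (N := K)
    (θ := 1) isIrr_one (fun g => rfl) hχ h ⟨k, hk⟩
  simpa using h1

theorem inner_one_of_ker {χ : G → ℂ} (h : ∀ k ∈ K, χ k = χ 1) :
    classInner (res K χ) 1 = χ 1 := by
  have h1 : res K χ = (χ 1) • (1 : K → ℂ) := by
    funext k
    show χ k = χ 1 * 1
    rw [h k k.2, mul_one]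
  rw [h1, classInner_smul_left, classInner_irr_self isIrr_one, mul_one]

open scoped Classical in
/-- `[χ₀_K, χ_K] = ∑_β β(1) [χ₀ β, χ]`, `β` over the characters of `G / K`. -/
theorem inner_res_eq [Fintype (IrrCharacter G)] {χ₀ χ : G → ℂ} (h₀ : IsClassFunction G χ₀)
    (hχ : IsClassFunction G χ) :
    classInner (res K χ₀) (res K χ) =
      ∑ β ∈ Finset.univ.filter (KerP K),
        (charDegree (β : G → ℂ) : ℂ) * classInner (χ₀ * (β : G → ℂ)) χ := by
  classical
  have hcl : IsClassFunction G (indFun K (1 : K → ℂ)) :=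
    isCharacter_isClassFunction (isCharacter_indFun K isCharacter_one)
  have h1 : indFun K (1 : K → ℂ) = ∑ β ∈ Finset.univ.filter (KerP K), (charDegree (β : G → ℂ) : ℂ) • (β : G → ℂ) := by
    conv_lhs => rw [classFunction_eq_sum hcl]
    rw [Finset.sum_filter]
    refine Finset.sum_congr rfl fun β _ => ?_
    have h2 : classInner (indFun K (1 : K → ℂ)) (β : G → ℂ) =
        conj (classInner (res K (β : G → ℂ)) 1) := by
      rw [classInner_indFun_left K 1 (isIrr_isClassFunction β.2), classInner_conj_symm]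
    split_ifs with h
    · rw [h2, inner_one_of_ker K h, Cfsg.Agent.Blocks.Basic.irr_one_eq_charDegree β.2,
        Complex.conj_natCast]
    · have h3 : classInner (res K (β : G → ℂ)) 1 = 0 := by
        by_contra hcon
        exact h (ker_of_inner_one K β.2 hcon)
      rw [h2, h3, map_zero, zero_smul]
  have h2 : indFun K (res K χ₀) = indFun K 1 * χ₀ := by
    rw [← indFun_mul K 1 h₀, one_mul]
  rw [← classInner_indFun_left K _ hχ, h2, h1, Finset.sum_mul, classInner_sum_left]
  refine Finset.sum_congr rfl fun β _ => ?_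
  rw [smul_mul_assoc, classInner_smul_left, mul_comm (β : G → ℂ)]

open scoped Classical in
/-- See the module docstring. -/
theorem star [Fintype (IrrCharacter G)] {θ : K → ℂ} (hθ : IsIrrCharacter K θ)
    {χ₀ : G → ℂ} (h₀ : IsIrrCharacter G χ₀) {e : ℕ} (he : classInner (res K χ₀) θ = e)
    (he0 : e ≠ 0) :
    charDegree θ * ∑ β ∈ Finset.univ.filter (KerP K),
        charDegree (β : G → ℂ) ≤
      e * ∑ χ ∈ Finset.univ.filter (OverP K θ),
        charDegree (χ : G → ℂ) := by
  classical
  set O : Finset (K → ℂ) :=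
    Finset.univ.image (fun x : G => θ ∘ (MulAut.conjNormal x : MulAut K)) with hO
  have hOirr : ∀ ψ ∈ O, IsIrrCharacter K ψ := by
    intro ψ hψ
    obtain ⟨x, -, rfl⟩ := Finset.mem_image.1 hψ
    exact Cfsg.Agent.Characters.Clifford.isIrr_conjNormal hθ x
  have hO1 : ∀ ψ ∈ O, ψ 1 = θ 1 := by
    intro ψ hψ
    obtain ⟨x, -, rfl⟩ := Finset.mem_image.1 hψ
    show θ (MulAut.conjNormal x 1) = θ 1
    rw [map_one]
  -- multiplicities over `θ`
  have hm : ∀ χ : IrrCharacter G, ∃ m : ℕ, classInner (res K (χ : G → ℂ)) θ = m := fun χ =>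
    classInner_isNat (isCharacter_res K (isIrr_isCharacter χ.2)) (isIrr_isCharacter hθ)
  choose m hm using hm
  have hres : ∀ χ : G → ℂ, IsIrrCharacter G χ → ∀ m : ℕ, classInner (res K χ) θ = m → m ≠ 0 →
      res K χ = (m : ℂ) • ∑ ψ ∈ O, ψ := by
    intro χ hχ m hm hm0
    have h1 := Cfsg.Agent.CharactersDeep.CliffordSum.restrict_eq_smul_sum K hχ hθ (by
      show classInner (res K χ) θ ≠ 0
      rw [hm]
      exact_mod_cast hm0)
    have h2 : classInner (fun n : K => χ n) θ = m := hm
    rw [h2] at h1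
    exact h1
  -- the inner products of the restrictions
  have hin : ∀ χ : IrrCharacter G, classInner (res K χ₀) (res K (χ : G → ℂ)) =
      ((e * O.card * m χ : ℕ) : ℂ) := by
    intro χ
    have h1 : ∀ ψ ∈ O, classInner ψ (res K (χ : G → ℂ)) = (m χ : ℂ) := by
      intro ψ hψ
      obtain ⟨x, -, rfl⟩ := Finset.mem_image.1 hψ
      rw [← classInner_conj_symm]
      have h2 := Cfsg.Agent.Characters.Clifford.classInner_restrict_conjNormal (N := K)
        (isIrr_isClassFunction χ.2) θ x
      have h3 : classInner (res K (χ : G → ℂ)) (θ ∘ (MulAut.conjNormal x : MulAut K)) = m χ := by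
        rw [← hm χ]
        exact h2
      rw [h3, Complex.conj_natCast]
    rw [hres χ₀ h₀ e he he0, classInner_smul_left, classInner_sum_left, Finset.sum_congr rfl h1,
      Finset.sum_const, nsmul_eq_mul]
    push_cast
    ring
  -- degrees
  have hdeg : ∀ χ : IrrCharacter G, m χ ≠ 0 →
      charDegree (χ : G → ℂ) = m χ * O.card * charDegree θ := by
    intro χ h0
    have h1 := congrFun (hres χ χ.2 (m χ) (hm χ) h0) 1
    rw [res_apply, Pi.smul_apply, Finset.sum_apply, Finset.sum_congr rfl hO1, Finset.sum_const,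
      OneMemClass.coe_one, Cfsg.Agent.Blocks.Basic.irr_one_eq_charDegree χ.2,
      Cfsg.Agent.Blocks.Basic.irr_one_eq_charDegree hθ, nsmul_eq_mul, smul_eq_mul] at h1
    have h2 : ((charDegree (χ : G → ℂ) : ℕ) : ℂ) = ((m χ * O.card * charDegree θ : ℕ) : ℂ) := by
      rw [h1]
      push_cast
      ring
    exact_mod_cast h2
  -- the products
  have hn : ∀ β χ : IrrCharacter G, ∃ n : ℕ, classInner (χ₀ * (β : G → ℂ)) (χ : G → ℂ) = n :=
    fun β χ => classInner_isNat (isCharacter_mul (isIrr_isCharacter h₀) (isIrr_isCharacter β.2))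
      (isIrr_isCharacter χ.2)
  choose n hn using hn
  have hsum : ∀ χ : IrrCharacter G, e * O.card * m χ =
      ∑ β ∈ Finset.univ.filter (KerP K),
        charDegree (β : G → ℂ) * n β χ := by
    intro χ
    have h1 := inner_res_eq K (isIrr_isClassFunction h₀) (isIrr_isClassFunction χ.2)
    rw [hin] at h1
    simp_rw [hn] at h1
    exact_mod_cast h1
  have hpos : ∀ β : IrrCharacter G, 1 ≤ ∑ χ : IrrCharacter G, n β χ := by
    intro β
    by_contra hcon
    have h0 : ∑ χ : IrrCharacter G, n β χ = 0 := by omega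
    have h1 : ∀ χ : IrrCharacter G, n β χ = 0 := fun χ =>
      (Finset.sum_eq_zero_iff.1 h0) χ (Finset.mem_univ _)
    have h2 := classFunction_eq_zero (isCharacter_isClassFunction
      (isCharacter_mul (isIrr_isCharacter h₀) (isIrr_isCharacter β.2))) (by
        intro χ hχ
        rw [hn β ⟨χ, hχ⟩, h1, Nat.cast_zero])
    have h3 := congrFun h2 1
    rw [Pi.mul_apply] at h3
    rcases mul_eq_zero.1 h3 with h | h
    · exact isIrr_apply_one_ne_zero h₀ h
    · exact isIrr_apply_one_ne_zero β.2 h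
  have hmiff : ∀ χ : IrrCharacter G, OverP K θ χ ↔ m χ ≠ 0 := by
    intro χ
    unfold OverP
    rw [hm]
    exact Nat.cast_ne_zero
  calc charDegree θ * ∑ β ∈ Finset.univ.filter (KerP K),
        charDegree (β : G → ℂ)
      ≤ charDegree θ * ∑ β ∈ Finset.univ.filter (KerP K),
        charDegree (β : G → ℂ) * ∑ χ : IrrCharacter G, n β χ := by
        refine Nat.mul_le_mul_left _ (Finset.sum_le_sum fun β _ => ?_)
        exact Nat.le_mul_of_pos_right _ (hpos β)
    _ = charDegree θ * ∑ χ : IrrCharacter G, e * O.card * m χ := by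
        congr 1
        simp_rw [hsum, Finset.mul_sum]
        rw [Finset.sum_comm]
    _ = charDegree θ * ∑ χ ∈ Finset.univ.filter (OverP K θ),
          e * O.card * m χ := by
        congr 1
        rw [Finset.sum_filter]
        refine Finset.sum_congr rfl fun χ _ => ?_
        by_cases h : m χ = 0
        · rw [if_neg (by rw [hmiff, not_not]; exact h), h, mul_zero]
        · rw [if_pos ((hmiff χ).2 h)]
    _ = e * ∑ χ ∈ Finset.univ.filter (OverP K θ),
          charDegree (χ : G → ℂ) := by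
        rw [Finset.mul_sum, Finset.mul_sum]
        refine Finset.sum_congr rfl fun χ hχ => ?_
        rw [Finset.mem_filter] at hχ
        rw [hdeg χ ((hmiff χ).1 hχ.2)]
        ring
    _ ≤ _ := le_rfl

end Cfsg.Agent.H595.AvgTwo
end

-- part: H595/AvgTwoG
section
/-!
# Irreducible characters of degree two which are nontrivial on a perfect normal subgroup
(helper595, for S4831)

`K` perfect and normal in `G`, `θ ∈ Irr(K)`: the number of `χ ∈ Irr(G)` of degree two with
`K ⊄ ker χ` is at most twice the number of `χ ∈ Irr(G)` of degree four not over `θ`, provided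
`θ` is not `x³ - 2 x` for a character `x` of degree two.
-/

set_option autoImplicit false
set_option linter.unusedSectionVars false

namespace Cfsg.Agent.H595.AvgTwo

open Cfsg
open scoped ComplexConjugate
open Cfsg.Agent.Characters.Core
open Cfsg.Agent.OddOrderCharacters.IndRes (res res_apply isCharacter_res)
open Cfsg.Agent.OddOrderCharacters.Clifford (isCharacter_sub_irr)

universe u

variable {G : Type u} [Group G] [Fintype G] (K : Subgroup G) [hKn : K.Normal] [Fintype K]

omit hKn in
/-- A character with irreducible restriction is irreducible. -/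
theorem irr_of_res {χ : G → ℂ} (hc : IsCharacter G χ) (h : IsIrrCharacter K (res K χ)) :
    IsIrrCharacter G χ := by
  have hne : χ ≠ 0 := by
    rintro rfl
    exact isIrr_ne_zero h rfl
  obtain ⟨η, hη, h2⟩ := Cfsg.Agent.OddOrderCharacters.PF4Type.exists_irr_constituent hc hne
  have h3 := isCharacter_sub_irr hc hη h2
  by_cases h0 : χ - η = 0
  · rw [sub_eq_zero] at h0
    rwa [h0]
  · exfalso
    have hηK := isCharacter_res K (isIrr_isCharacter hη)
    have hκK := isCharacter_res K h3
    have hsum : res K χ = res K η + res K (χ - η) := by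
      funext k
      show χ k = η k + (χ k - η k)
      ring
    obtain ⟨a, ha⟩ := classInner_isNat hηK hηK
    obtain ⟨b, hb⟩ := classInner_isNat hκK hκK
    obtain ⟨c, hc'⟩ := classInner_isNat hηK hκK
    obtain ⟨d, hd⟩ := classInner_isNat hκK hηK
    have h5 := classInner_irr_self h
    rw [hsum, classInner_add_left, classInner_add_right, classInner_add_right, ha, hb, hc', hd]
      at h5
    have h6 : a + c + (d + b) = 1 := by exact_mod_cast h5
    have ha0 : a ≠ 0 := by
      rintro rfl
      have h7 : res K η = 0 := classInner_self_eq_zero (by rw [ha, Nat.cast_zero])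
      exact isIrr_apply_one_ne_zero hη (congrFun h7 1)
    have hb0 : b ≠ 0 := by
      rintro rfl
      have h7 : res K (χ - η) = 0 := classInner_self_eq_zero (by rw [hb, Nat.cast_zero])
      exact h0 (eq_zero_of_apply_one h3 (congrFun h7 1))
    omega

/-- Twists fixing a character with irreducible restriction. -/
theorem twist_unique {χ : G → ℂ} (hχ : IsIrrCharacter G χ) (hχK : IsIrrCharacter K (res K χ))
    (β : G →* ℂˣ) (hβ : ∀ n ∈ K, β n = 1) (h : ∀ g, χ g * β g = χ g) : β = 1 := by
  have h1 := Cfsg.Agent.H685.Acd.card_stab_le (N := K) K.subtype hχ (m := 1) (by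
    rw [Nat.cast_one]
    exact classInner_irr_self hχK)
  have hfin := Cfsg.Agent.H685.Acd.finite_hom G
  have h2 : Subsingleton {g : G →* ℂˣ // (∀ n, g (K.subtype n) = 1) ∧
      ∀ t, (g t : ℂ) * χ t = χ t} := Finite.card_le_one_iff_subsingleton.1 h1
  have h3 := h2.elim ⟨β, fun n => hβ n n.2, fun t => by rw [mul_comm]; exact h t⟩
    ⟨1, fun n => rfl, fun t => by simp⟩
  exact congrArg Subtype.val h3

/-- Characters with equal irreducible restrictions. -/
theorem eq_of_twist {χ χ' : IrrCharacter G} (hK : IsIrrCharacter K (res K (χ : G → ℂ)))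
    (hres : res K (χ : G → ℂ) = res K (χ' : G → ℂ)) (F : (G → ℂ) → G → ℂ)
    (hF : ∀ (φ : G → ℂ) (β : G →* ℂˣ), F (fun g => φ g * β g) = fun g => F φ g * β g)
    (hirr : IsIrrCharacter G (F χ)) (hirrK : IsIrrCharacter K (res K (F χ)))
    (heq : F (χ : G → ℂ) = F (χ' : G → ℂ)) : χ = χ' := by
  obtain ⟨β, hβ, h⟩ := Cfsg.Agent.CharactersDeep.ExtUnique.exists_hom_mul_of_restrict_eq K
    (isIrr_isCharacter χ.2) (isIrr_isCharacter χ'.2) hK (fun n => rfl)
    (fun n => (congrFun hres n).symm)
  have h1 : (χ' : G → ℂ) = fun g => (χ : G → ℂ) g * β g := funext h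
  have h2 : β = 1 := twist_unique K hirr hirrK β hβ (fun g => by
    have h3 : F (χ' : G → ℂ) g = F (χ : G → ℂ) g * β g := by rw [h1, hF]
    rw [← h3, heq])
  apply Subtype.ext
  rw [h1, h2]
  funext g
  simp

section perfect

variable (hK : ∀ f : K →* ℂˣ, f = 1)

include hK

theorem res_two {χ : IrrCharacter G} (hd : charDegree (χ : G → ℂ) = 2) (hker : ¬ KerP K χ) :
    Two (res K (χ : G → ℂ)) := by
  have hdeg : res K (χ : G → ℂ) 1 = 2 := by
    rw [res_apply, OneMemClass.coe_one, Cfsg.Agent.Blocks.Basic.irr_one_eq_charDegree χ.2, hd]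
    rfl
  refine ⟨irr_two hK (isCharacter_res K (isIrr_isCharacter χ.2)) (by rw [hdeg]; rfl) ?_, hdeg⟩
  by_contra hcon
  exact hker (ker_of_inner_one K χ.2 hcon)

omit hK hKn [Fintype K] [Fintype G] in
/-- `χ (|χ|² - 2)`. -/
def tauG (χ : G → ℂ) : G → ℂ := fun g => χ g * (χ g * conj (χ g) - 1) - χ g

theorem res_tauG {χ : G → ℂ} (hx : Two (res K χ)) : res K (tauG χ) = tau (res K χ) := by
  funext k
  show χ k * (χ k * conj (χ k) - 1) - χ k = χ k * (χ k * χ k - 1) - χ k
  have h : conj (χ k) = χ k := hx.real hK k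
  rw [h]

theorem tauG_char {χ : G → ℂ} (hχ : IsIrrCharacter G χ) (hx : Two (res K χ)) :
    IsCharacter G (tauG χ) := by
  have hcc : IsCharacter G (χ * fun g => conj (χ g)) :=
    isCharacter_mul (isIrr_isCharacter hχ) (isCharacter_conj (isIrr_isCharacter hχ))
  have h1 : classInner (χ * fun g => conj (χ g)) 1 = 1 := by
    rw [← classInner_irr_self hχ, classInner_def, classInner_def]
    congr 1
    refine Finset.sum_congr rfl fun g _ => ?_
    simp
  set ψ : G → ℂ := (χ * fun g => conj (χ g)) - 1 with hψ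
  have hψc : IsCharacter G ψ := isCharacter_sub_irr hcc isIrr_one (by rw [h1]; exact one_ne_zero)
  have hψK : res K ψ = rho (res K χ) := by
    funext k
    show χ k * conj (χ k) - 1 = χ k * χ k - 1
    have h : conj (χ k) = χ k := hx.real hK k
    rw [h]
  have hψi : IsIrrCharacter G ψ := irr_of_res K hψc (by rw [hψK]; exact rho_irr hK hx)
  have hψr : ∀ g, conj (ψ g) = ψ g := by
    intro g
    show conj (χ g * conj (χ g) - 1) = χ g * conj (χ g) - 1
    rw [map_sub, map_mul, Complex.conj_conj, map_one, mul_comm]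
  have h2 : classInner (χ * ψ) χ = classInner ψ 1 + classInner ψ ψ := by
    have h3 : classInner (χ * ψ) χ = classInner ψ (1 + ψ) := by
      rw [classInner_def, classInner_def]
      congr 1
      refine Finset.sum_congr rfl fun g _ => ?_
      show χ g * ψ g * conj (χ g) = ψ g * conj (1 + ψ g)
      rw [map_add, hψr, map_one]
      show χ g * ψ g * conj (χ g) = ψ g * (1 + (χ g * conj (χ g) - 1))
      ring
    rw [h3, classInner_add_right]
  obtain ⟨m, hm⟩ := classInner_isNat hψc isCharacter_one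
  have h4 : classInner (χ * ψ) χ ≠ 0 := by
    rw [h2, hm, classInner_irr_self hψi]
    exact_mod_cast Nat.succ_ne_zero m
  exact isCharacter_sub_irr (isCharacter_mul (isIrr_isCharacter hχ) hψc) hχ h4

theorem tauG_irr {χ : G → ℂ} (hχ : IsIrrCharacter G χ) (hx : Two (res K χ)) :
    IsIrrCharacter G (tauG χ) ∧ IsIrrCharacter K (res K (tauG χ)) := by
  have h1 : IsIrrCharacter K (res K (tauG χ)) := by
    rw [res_tauG K hK hx]
    exact tau_irr hK hx
  exact ⟨irr_of_res K (tauG_char K hK hχ hx) h1, h1⟩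

theorem prodG_irr {χ χ' : G → ℂ} (hχ : IsIrrCharacter G χ) (hχ' : IsIrrCharacter G χ')
    (hx : Two (res K χ)) (hx' : Two (res K χ')) (hne : res K χ ≠ res K χ') :
    IsIrrCharacter G (χ * χ') ∧ IsIrrCharacter K (res K (χ * χ')) := by
  have h1 : IsIrrCharacter K (res K (χ * χ')) := prod_irr hK hx hx' hne
  exact ⟨irr_of_res K (isCharacter_mul (isIrr_isCharacter hχ) (isIrr_isCharacter hχ')) h1, h1⟩

omit hK hKn [Fintype K] [Fintype G] in
theorem charDegree_four {χ : G → ℂ} (h : χ 1 = ((4 : ℕ) : ℂ)) : charDegree χ = 4 :=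
  Cfsg.Agent.Blocks.Basic.charDegree_of_eq h

/-- **The count.** -/
theorem card_two_le {θ : K → ℂ} (hθ : IsIrrCharacter K θ)
    (hθτ : ∀ χ : IrrCharacter G, Two (res K (χ : G → ℂ)) → tau (res K (χ : G → ℂ)) ≠ θ) :
    Nat.card {χ : IrrCharacter G // charDegree (χ : G → ℂ) = 2 ∧ ¬ KerP K χ} ≤
      2 * Nat.card {χ : IrrCharacter G // charDegree (χ : G → ℂ) = 4 ∧ ¬ OverP K θ χ} := by
  classical
  have hfin : Finite (IrrCharacter G) := finite_irr
  set D := {χ : IrrCharacter G // charDegree (χ : G → ℂ) = 2 ∧ ¬ KerP K χ} with hD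
  set B := {χ : IrrCharacter G // charDegree (χ : G → ℂ) = 4 ∧ ¬ OverP K θ χ} with hB
  rcases isEmpty_or_nonempty D with hemp | ⟨⟨χ₁, hχ₁⟩⟩
  · rw [Nat.card_of_isEmpty]
    exact Nat.zero_le _
  have htwo : ∀ χ : D, Two (res K (χ.1 : G → ℂ)) := fun χ => res_two K hK χ.2.1 χ.2.2
  have h1 : Two (res K (χ₁ : G → ℂ)) := res_two K hK hχ₁.1 hχ₁.2
  -- the two maps
  have hover : ∀ φ : IrrCharacter G, IsIrrCharacter K (res K (φ : G → ℂ)) →
      res K (φ : G → ℂ) ≠ θ → ¬ OverP K θ φ := by
    intro φ hφ hne hov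
    exact hov (classInner_irr_ne hφ hθ hne)
  let ft : D → B := fun χ => ⟨⟨tauG (χ.1 : G → ℂ), (tauG_irr K hK χ.1.2 (htwo χ)).1⟩, by
    refine ⟨?_, hover _ (tauG_irr K hK χ.1.2 (htwo χ)).2 ?_⟩
    · apply charDegree_four
      have h2 := congrFun (res_tauG K hK (htwo χ)) 1
      rw [tau_deg hK (htwo χ)] at h2
      exact h2
    · show res K (tauG (χ.1 : G → ℂ)) ≠ θ
      rw [res_tauG K hK (htwo χ)]
      exact hθτ χ.1 (htwo χ)⟩
  let fp : ∀ χ : D, res K (χ₁ : G → ℂ) ≠ res K (χ.1 : G → ℂ) →
      res K ((χ₁ : G → ℂ) * (χ.1 : G → ℂ)) ≠ θ → B := fun χ hne hne' =>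
    ⟨⟨(χ₁ : G → ℂ) * (χ.1 : G → ℂ), (prodG_irr K hK χ₁.2 χ.1.2 h1 (htwo χ) hne).1⟩, by
      refine ⟨?_, hover _ (prodG_irr K hK χ₁.2 χ.1.2 h1 (htwo χ) hne).2 hne'⟩
      apply charDegree_four
      have h2 := prod_deg hK h1 (htwo χ)
      exact h2⟩
  let F : D → Bool × B := fun χ =>
    if ha : res K (χ₁ : G → ℂ) = res K (χ.1 : G → ℂ) then (true, ft χ) else
    if hb : res K ((χ₁ : G → ℂ) * (χ.1 : G → ℂ)) = θ then (false, ft χ) else
    (false, fp χ ha hb)
  have hft : ∀ χ χ' : D, res K (χ.1 : G → ℂ) = res K (χ'.1 : G → ℂ) → ft χ = ft χ' → χ = χ' := by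
    intro χ χ' hr heq
    apply Subtype.ext
    refine eq_of_twist K (htwo χ).irr hr tauG ?_ (tauG_irr K hK χ.1.2 (htwo χ)).1
      (tauG_irr K hK χ.1.2 (htwo χ)).2 (congrArg (fun b : B => (b.1 : G → ℂ)) heq)
    intro φ β
    funext g
    have hβ : (β g : ℂ) * conj (β g : ℂ) = 1 := by
      have h2 : IsOfFinOrder (β g) := β.isOfFinOrder (isOfFinOrder_of_finite g)
      have h3 : ‖(β g : ℂ)‖ = 1 := by
        obtain ⟨n, hn, hn1⟩ := isOfFinOrder_iff_pow_eq_one.1 h2
        exact Complex.norm_eq_one_of_pow_eq_one (by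
          rw [← Units.val_pow_eq_pow_val, hn1, Units.val_one]) hn.ne'
      rw [Complex.mul_conj, Complex.normSq_eq_norm_sq, h3]
      simp
    show φ g * β g * (φ g * β g * conj (φ g * β g) - 1) - φ g * β g =
      (φ g * (φ g * conj (φ g) - 1) - φ g) * β g
    rw [map_mul]
    linear_combination (φ g * β g * φ g * conj (φ g)) * hβ
  have hfp : ∀ (χ χ' : D) (hne hne' hne2 hne2'), fp χ hne hne' = fp χ' hne2 hne2' → χ = χ' := by
    intro χ χ' hne hne' hne2 hne2' heq
    have heq' : (χ₁ : G → ℂ) * (χ.1 : G → ℂ) = (χ₁ : G → ℂ) * (χ'.1 : G → ℂ) :=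
      congrArg (fun b : B => (b.1 : G → ℂ)) heq
    have hr : res K (χ.1 : G → ℂ) = res K (χ'.1 : G → ℂ) := by
      by_contra hcon
      exact prod_ne hK h1 (htwo χ) (htwo χ') hne hcon (congrArg (res K) heq')
    apply Subtype.ext
    refine eq_of_twist K (htwo χ).irr hr (fun φ => (χ₁ : G → ℂ) * φ) ?_
      (prodG_irr K hK χ₁.2 χ.1.2 h1 (htwo χ) hne).1
      (prodG_irr K hK χ₁.2 χ.1.2 h1 (htwo χ) hne).2 heq'
    intro φ β
    funext g
    show (χ₁ : G → ℂ) g * (φ g * β g) = (χ₁ : G → ℂ) g * φ g * β g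
    ring
  have htp : ∀ (χ χ' : D) (hne hne'), ft χ ≠ fp χ' hne hne' := by
    intro χ χ' hne hne' heq
    have heq' : tauG (χ.1 : G → ℂ) = (χ₁ : G → ℂ) * (χ'.1 : G → ℂ) :=
      congrArg (fun b : B => (b.1 : G → ℂ)) heq
    have h2 := congrArg (res K) heq'
    rw [res_tauG K hK (htwo χ)] at h2
    exact tau_ne_prod hK (htwo χ) h1 (htwo χ') hne h2
  have hF : Function.Injective F := by
    intro χ χ' heq
    by_cases ha : res K (χ₁ : G → ℂ) = res K (χ.1 : G → ℂ)
    · have e1 : F χ = (true, ft χ) := dif_pos ha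
      by_cases ha' : res K (χ₁ : G → ℂ) = res K (χ'.1 : G → ℂ)
      · have e2 : F χ' = (true, ft χ') := dif_pos ha'
        rw [e1, e2] at heq
        exact hft χ χ' (ha.symm.trans ha') (congrArg Prod.snd heq)
      · exfalso
        have e2 : (F χ').1 = false := by
          show (if ha : _ then _ else _ : Bool × B).1 = false
          rw [dif_neg ha']
          split_ifs <;> rfl
        rw [← heq, e1] at e2
        exact Bool.noConfusion e2
    · by_cases ha' : res K (χ₁ : G → ℂ) = res K (χ'.1 : G → ℂ)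
      · exfalso
        have e1 : F χ' = (true, ft χ') := dif_pos ha'
        have e2 : (F χ).1 = false := by
          show (if ha : _ then _ else _ : Bool × B).1 = false
          rw [dif_neg ha]
          split_ifs <;> rfl
        rw [heq, e1] at e2
        exact Bool.noConfusion e2
      · by_cases hb : res K ((χ₁ : G → ℂ) * (χ.1 : G → ℂ)) = θ
        · have e1 : F χ = (false, ft χ) := (dif_neg ha).trans (dif_pos hb)
          by_cases hb' : res K ((χ₁ : G → ℂ) * (χ'.1 : G → ℂ)) = θ
          · have e2 : F χ' = (false, ft χ') := (dif_neg ha').trans (dif_pos hb')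
            rw [e1, e2] at heq
            refine hft χ χ' ?_ (congrArg Prod.snd heq)
            by_contra hcon
            exact prod_ne hK h1 (htwo χ) (htwo χ') ha hcon (hb.trans hb'.symm)
          · have e2 : F χ' = (false, fp χ' ha' hb') := (dif_neg ha').trans (dif_neg hb')
            rw [e1, e2] at heq
            exact (htp χ χ' ha' hb' (congrArg Prod.snd heq)).elim
        · have e1 : F χ = (false, fp χ ha hb) := (dif_neg ha).trans (dif_neg hb)
          by_cases hb' : res K ((χ₁ : G → ℂ) * (χ'.1 : G → ℂ)) = θ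
          · have e2 : F χ' = (false, ft χ') := (dif_neg ha').trans (dif_pos hb')
            rw [e1, e2] at heq
            exact (htp χ' χ ha hb (congrArg Prod.snd heq).symm).elim
          · have e2 : F χ' = (false, fp χ' ha' hb') := (dif_neg ha').trans (dif_neg hb')
            rw [e1, e2] at heq
            exact hfp χ χ' ha hb ha' hb' (congrArg Prod.snd heq)
  calc Nat.card D ≤ Nat.card (Bool × B) := Nat.card_le_card_of_injective F hF
    _ = 2 * Nat.card B := by rw [Nat.card_prod]; simp

end perfect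

end Cfsg.Agent.H595.AvgTwo
end
end
end
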